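import Mathlib

/-!
# The binomial identity behind the dimensions of twisted forms on projective space
-/

set_option autoImplicit false

namespace Groth.Agent.PnHodge

/-- `h⁰(Ω^p(d))` on `P^n` for `d > 0`. -/
def hzero (n p d : ℕ) : ℕ := Nat.choose (d + n - p) d * Nat.choose (d - 1) p

open Nat in
theorem comb_core (a b p : ℕ) :
    ((p + b + 1 + a).choose a : ℚ) * (p + b).choose (p + 1) + ((p + b + 1 + (a + 1)).choose (a + 1) : ℚ) * (p + b).choose p =
      ((p + 1 + (a + 1)).choose (p + 1) : ℚ) * (p + a + 1 + b).choose b := by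
  rcases b with _ | b
  · rw [Nat.choose_eq_zero_of_lt (show p + 0 < p + 1 by omega)]
    simp only [Nat.choose_self, add_zero, Nat.choose_zero_right, Nat.cast_zero, mul_zero, zero_add,
      Nat.cast_one, mul_one]
    rw [Nat.choose_symm_add]
  rw [show p + (b + 1) + 1 + a = a + (p + b + 2) by omega, show p + (b + 1) + 1 + (a + 1) = (a + 1) + (p + b + 2) by omega,
    show (p + a + 1 + (b + 1)).choose (b + 1) = ((b + 1) + (p + a + 1)).choose (b + 1) by rw [Nat.add_comm]]
  rw [show (p + (b + 1)).choose (p + 1) = ((p + 1) + b).choose (p + 1) by congr 1; omega]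
  simp only [Nat.cast_add_choose]
  rw [show p + 1 + b = p + (b + 1) by omega, show a + (p + b + 2) = (b + 1) + (p + a + 1) by omega,
    show a + 1 + (p + b + 2) = (b + 1) + (p + a + 1) + 1 by omega,
    show p + 1 + (a + 1) = p + a + 1 + 1 by omega, show p + b + 2 = p + (b + 1) + 1 by omega,
    Nat.factorial_succ ((b + 1) + (p + a + 1)), Nat.factorial_succ (p + a + 1), Nat.factorial_succ (p + (b + 1)),
    Nat.factorial_succ b, Nat.factorial_succ a, Nat.factorial_succ p]
  have h1 : ((p + a + 1).factorial : ℚ) ≠ 0 := Nat.cast_ne_zero.2 (Nat.factorial_ne_zero _)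
  have h2 : ((p + (b + 1)).factorial : ℚ) ≠ 0 := Nat.cast_ne_zero.2 (Nat.factorial_ne_zero _)
  have h3 : (a.factorial : ℚ) ≠ 0 := Nat.cast_ne_zero.2 (Nat.factorial_ne_zero _)
  have h4 : (b.factorial : ℚ) ≠ 0 := Nat.cast_ne_zero.2 (Nat.factorial_ne_zero _)
  have h5 : (p.factorial : ℚ) ≠ 0 := Nat.cast_ne_zero.2 (Nat.factorial_ne_zero _)
  push_cast
  field_simp
  ring

theorem hzero_succ_add {n p d : ℕ} (hd : 1 ≤ d) (hp : p < n) :
    hzero n (p + 1) d + hzero n p d = (n + 1).choose (p + 1) * (n + d - (p + 1)).choose n := by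
  unfold hzero
  rcases le_or_gt d p with h | h
  · rw [Nat.choose_eq_zero_of_lt (show d - 1 < p + 1 by omega), Nat.choose_eq_zero_of_lt (show d - 1 < p by omega),
      Nat.choose_eq_zero_of_lt (show n + d - (p + 1) < n by omega)]
    simp
  obtain ⟨b, rfl⟩ : ∃ b, d = p + b + 1 := ⟨d - p - 1, by omega⟩
  obtain ⟨a, rfl⟩ : ∃ a, n = p + a + 1 := ⟨n - p - 1, by omega⟩
  rw [show p + b + 1 + (p + a + 1) - (p + 1) = p + b + 1 + a by omega,
    show p + b + 1 + (p + a + 1) - p = p + b + 1 + (a + 1) by omega,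
    show p + b + 1 - 1 = p + b by omega, show p + a + 1 + 1 = p + 1 + (a + 1) by omega,
    show p + a + 1 + (p + b + 1) - (p + 1) = p + a + 1 + b by omega,
    Nat.choose_symm_add, Nat.choose_symm_add, Nat.choose_symm_add (a := p + a + 1) (b := b)]
  exact_mod_cast comb_core a b p

end Groth.Agent.PnHodge
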