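import Groth.Agent.PnHodge.Coh
import Groth.Agent.PnHodge.Comb
import Groth.Agent.PlaneForms.Basic

/-!
# Dimensions of the cohomology of twisted differential forms on projective space over a field
-/

set_option autoImplicit false
set_option backward.isDefEq.respectTransparency false
set_option backward.isDefEq.respectTransparency.types false
set_option linter.style.haveILetI false
set_option linter.unusedSectionVars false
set_option maxHeartbeats 1000000

universe u

open CategoryTheory CategoryTheory.Limits AlgebraicGeometry TopologicalSpace Opposite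
open Groth.Agent.CohFinite (hhMap hhEquiv)

noncomputable section

namespace Groth.Agent.PnHodge

variable {n : ℕ} {k : Type u} [Field k] [QuasiSeparated (CohB1.ProjSpace.toSpec n k)]

theorem finrank_forms (j : ℕ) : Module.Finite k (MvPolynomial.homogeneousSubmodule (Fin (n + 1)) k j) ∧
    Module.finrank k (MvPolynomial.homogeneousSubmodule (Fin (n + 1)) k j) = (n + j).choose n := by
  classical
  obtain ⟨h1, h2⟩ := PlaneForms.finite_homogeneous_and_finrank (k := k) (σ := Fin (n + 1)) j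
  refine ⟨h1, ?_⟩
  rw [h2, Fintype.card_fin, show n + 1 + j - 1 = n + j by omega, Nat.choose_symm_add]

/-- `h⁰(O(j - c))`, `c ≤ n + 1`. -/
theorem twist_h0 (c j : ℕ) (hc : c ≤ n) :
    Module.Finite k (Coh.HH (CohB1.ProjSpace n k) (Twist.twistProjSpace n k ((j : ℤ) - (c : ℕ))) 0) ∧
      Module.finrank k (Coh.HH (CohB1.ProjSpace n k) (Twist.twistProjSpace n k ((j : ℤ) - (c : ℕ))) 0) =
        (n + j - c).choose n := by
  rcases le_or_gt c j with h | h
  · obtain ⟨i, rfl⟩ := Nat.exists_eq_add_of_le h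
    rw [show ((c + i : ℕ) : ℤ) - (c : ℕ) = (i : ℤ) by omega, show n + (c + i) - c = n + i by omega]
    obtain ⟨e⟩ := ProjCech.zero_equiv (R := k) n i
    haveI := (finrank_forms (n := n) (k := k) i).1
    exact ⟨Module.Finite.equiv e.symm, by rw [e.finrank_eq, (finrank_forms i).2]⟩
  · haveI := ProjCech.twist_vanish (R := k) n ((j : ℤ) - (c : ℕ)) 0 (by omega) (by omega)
    refine ⟨inferInstance, ?_⟩
    rw [Module.finrank_zero_of_subsingleton, Nat.choose_eq_zero_of_lt (by omega)]

/-- `hⁿ(O(-m))`, `m > 0`. -/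
theorem twist_hn (m : ℕ) (hm : 0 < m) :
    Module.Finite k (Coh.HH (CohB1.ProjSpace n k) (Twist.twistProjSpace n k (-(m : ℤ))) n) ∧
      Module.finrank k (Coh.HH (CohB1.ProjSpace n k) (Twist.twistProjSpace n k (-(m : ℤ))) n) =
        (m - 1).choose n := by
  rcases lt_or_ge n m with h | h
  · obtain ⟨i, rfl⟩ : ∃ i, m = n + 1 + i := ⟨m - n - 1, by omega⟩
    rw [show -((n + 1 + i : ℕ) : ℤ) = -((n : ℤ) + 1 + i) by omega, show n + 1 + i - 1 = n + i by omega]
    obtain ⟨e⟩ := ProjCech.top_equiv (R := k) n i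
    haveI := (finrank_forms (n := n) (k := k) i).1
    exact ⟨Module.Finite.equiv e.symm, by rw [e.finrank_eq, (finrank_forms i).2]⟩
  · haveI := ProjCech.twist_vanish (R := k) n (-(m : ℤ)) n (by omega) (by omega)
    refine ⟨inferInstance, ?_⟩
    rw [Module.finrank_zero_of_subsingleton, Nat.choose_eq_zero_of_lt (by omega)]

omit [QuasiSeparated (CohB1.ProjSpace.toSpec n k)] in
/-- Dimension in a short exact sequence of vector spaces. -/
theorem finrank_exact {V₁ V₂ V₃ : Type*} [AddCommGroup V₁] [Module k V₁] [AddCommGroup V₂] [Module k V₂]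
    [AddCommGroup V₃] [Module k V₃] [Module.Finite k V₂] (f : V₁ →ₗ[k] V₂) (g : V₂ →ₗ[k] V₃)
    (hf : Function.Injective f) (hg : Function.Surjective g) (h : LinearMap.range f = LinearMap.ker g) :
    Module.Finite k V₁ ∧ Module.Finite k V₃ ∧
      Module.finrank k V₁ + Module.finrank k V₃ = Module.finrank k V₂ := by
  refine ⟨Module.Finite.of_injective f hf, Module.Finite.of_surjective g hg, ?_⟩
  have := g.finrank_range_add_finrank_ker
  rw [← h, LinearMap.finrank_range_of_inj hf, LinearMap.range_eq_top.2 hg, finrank_top] at this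
  omega

theorem finrank_H_pos (p : ℕ) : p ≤ n → ∀ (d : ℕ), 1 ≤ d → ∀ L, IsOm n k p L →
    Module.Finite k (H L (d : ℤ) 0) ∧ Module.finrank k (H L (d : ℤ) 0) = hzero n p d := by
  induction p with
  | zero =>
    intro _ d hd L hL
    obtain ⟨e⟩ := nonempty_H_zero_equiv hL (d : ℤ) 0
    obtain ⟨h1, h2⟩ := twist_h0 (n := n) (k := k) 0 d (Nat.zero_le _)
    rw [Nat.cast_zero, sub_zero] at h1 h2
    refine ⟨Module.Finite.equiv e.symm, ?_⟩
    rw [e.finrank_eq, h2, hzero, Nat.choose_zero_right, mul_one, Nat.sub_zero, Nat.sub_zero, Nat.add_comm d n,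
      Nat.choose_symm_add]
  | succ p ih =>
    intro hp d hd L' hL'
    obtain ⟨L, hL⟩ := exists_isOm n k p
    obtain ⟨S, hS, he⟩ := exists_seq' p hL hL' (d : ℤ)
    obtain ⟨⟨a⟩, ⟨b⟩, ⟨c⟩⟩ := he 0
    obtain ⟨⟨a'⟩, -, -⟩ := he (0 + 1)
    obtain ⟨h1, h2⟩ := twist_h0 (n := n) (k := k) (p + 1) d hp
    haveI := h1
    haveI : Module.Finite k (Coh.HH (CohB1.ProjSpace n k) S.X₂ 0) := Module.Finite.equiv b.symm
    obtain ⟨f1, -, f3⟩ := finrank_exact _ _ (injective_f_zero (A := k) hS)
      (surjective_g (A := k) hS 0 (a'.toEquiv.subsingleton_congr.2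
        (vanish (p + 1) d 1 (by omega) (by omega) (by omega) L' hL'))) (range_f (A := k) hS 0)
    haveI := f1
    refine ⟨Module.Finite.equiv a, ?_⟩
    rw [a.finrank_eq, c.finrank_eq, b.finrank_eq, Module.finrank_pi_fintype, Finset.sum_const, Finset.card_univ,
      Fintype.card_fin, h2, smul_eq_mul, (ih (by omega) d hd L hL).2, ← hzero_succ_add hd hp] at f3
    omega

theorem finrank_H_neg (p : ℕ) : p ≤ n → ∀ (e : ℕ), 1 ≤ e → ∀ L, IsOm n k p L →
    Module.Finite k (H L (-(e : ℤ)) n) ∧ Module.finrank k (H L (-(e : ℤ)) n) = hzero n (n - p) e := by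
  induction p with
  | zero =>
    intro _ e he L hL
    obtain ⟨ε⟩ := nonempty_H_zero_equiv hL (-(e : ℤ)) n
    obtain ⟨h1, h2⟩ := twist_hn (n := n) (k := k) e he
    refine ⟨Module.Finite.equiv ε.symm, ?_⟩
    rw [ε.finrank_eq, h2, hzero, Nat.sub_zero, show e + n - n = e by omega, Nat.choose_self, one_mul]
  | succ p ih =>
    intro hp e he L' hL'
    obtain ⟨L, hL⟩ := exists_isOm n k p
    obtain ⟨S, hS, hh⟩ := exists_seq' p hL hL' (-(e : ℤ))
    obtain ⟨m, rfl⟩ : ∃ m, n = m + 1 := ⟨n - 1, by omega⟩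
    obtain ⟨⟨a⟩, ⟨b⟩, ⟨c⟩⟩ := hh (m + 1)
    obtain ⟨-, -, ⟨c'⟩⟩ := hh m
    obtain ⟨⟨a'⟩, -, -⟩ := hh (m + 1 + 1)
    obtain ⟨h1, h2⟩ := twist_hn (n := m + 1) (k := k) (e + p + 1) (by omega)
    rw [show -((e + p + 1 : ℕ) : ℤ) = -(e : ℤ) - (p + 1 : ℕ) by omega] at h1 h2
    haveI := h1
    haveI : Module.Finite k (Coh.HH (CohB1.ProjSpace (m + 1) k) S.X₂ (m + 1)) := Module.Finite.equiv b.symm
    obtain ⟨f1, -, f3⟩ := finrank_exact _ _
      (injective_f_succ (A := k) hS m (c'.toEquiv.subsingleton_congr.2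
        (vanish p _ m (by omega) (by omega) (by omega) L hL)))
      (surjective_g (A := k) hS (m + 1) (a'.toEquiv.subsingleton_congr.2
        (vanish (p + 1) _ (m + 1 + 1) (by omega) (by omega) (by omega) L' hL'))) (range_f (A := k) hS (m + 1))
    haveI := f1
    refine ⟨Module.Finite.equiv a, ?_⟩
    rw [a.finrank_eq, c.finrank_eq, b.finrank_eq, Module.finrank_pi_fintype, Finset.sum_const, Finset.card_univ,
      Fintype.card_fin, h2, smul_eq_mul, (ih (by omega) e he L hL).2] at f3
    have key := hzero_succ_add (n := m + 1) (p := m + 1 - (p + 1)) he (by omega)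
    rw [show m + 1 - (p + 1) + 1 = m + 1 - p by omega, show m + 1 + e - (m + 1 - p) = e + p + 1 - 1 by omega,
      show (m + 1 + 1).choose (m + 1 - p) = (m + 1 + 1).choose (p + 1) from
        Nat.choose_symm_of_eq_add (by omega)] at key
    omega

end Groth.Agent.PnHodge
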