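import Groth.Agent.CohFinite.Serre
import Groth.Agent.FormGr.SysMul
import Groth.Agent.TMul.Assoc

/-!
# Exact sequences of cohomology and cohomology of split modules
-/

set_option autoImplicit false
set_option backward.isDefEq.respectTransparency false
set_option backward.isDefEq.respectTransparency.types false
set_option linter.style.haveILetI false

universe u

open CategoryTheory CategoryTheory.Limits AlgebraicGeometry TopologicalSpace Opposite
open Groth.Agent.CohFinite (hhMap hhMap_comp hhMap_id hhδ hhEquiv shortExact_toAb tmap)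

noncomputable section

namespace Groth.Agent.PnHodge

variable (A : Type u) [CommRing A] {X : Scheme.{u}} [X.Over (Spec (CommRingCat.of A))]

theorem hhMap_sum {ι : Type} {M N : X.Modules} (s : Finset ι) (f : ι → (M ⟶ N)) (q : ℕ) (x : Coh.HH X M q) :
    hhMap A (∑ j ∈ s, f j) q x = ∑ j ∈ s, hhMap A (f j) q x := by
  classical
  induction s using Finset.induction_on with
  | empty => rw [Finset.sum_empty, Finset.sum_empty, FormAlg.hhMap_zero]
  | insert a s ha ih => rw [Finset.sum_insert ha, Finset.sum_insert ha, FormGr.hhMap_add', ih]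

/-- The cohomology of a sum of copies. -/
theorem nonempty_hh_split {ι : Type} [Fintype ι] {M N : X.Modules} (i : ι → (N ⟶ M)) (p : ι → (M ⟶ N))
    (htot : ∑ j, p j ≫ i j = 𝟙 M) (hone : ∀ j, i j ≫ p j = 𝟙 N) (hzero : ∀ j l, j ≠ l → i j ≫ p l = 0)
    (q : ℕ) : Nonempty (Coh.HH X M q ≃ₗ[A] (ι → Coh.HH X N q)) := by
  classical
  have hr : ∀ x : Coh.HH X M q, ∑ j, hhMap A (i j) q (hhMap A (p j) q x) = x := fun x => by
    simp only [← hhMap_comp]
    rw [← hhMap_sum, htot, hhMap_id]
  refine ⟨LinearEquiv.ofBijective (LinearMap.pi fun j => hhMap A (p j) q) ⟨fun x y h => ?_, fun v => ?_⟩⟩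
  · rw [← hr x, ← hr y]
    exact Finset.sum_congr rfl fun j _ => congrArg _ (congrFun h j)
  · refine ⟨∑ j, hhMap A (i j) q (v j), funext fun l => ?_⟩
    simp only [LinearMap.pi_apply, map_sum, ← hhMap_comp]
    rw [Finset.sum_eq_single l]
    · rw [hone, hhMap_id]
    · intro j _ hjl
      rw [hzero j l hjl, FormAlg.hhMap_zero]
    · simp

/-- The cohomology of a free module tensored with `N`. -/
theorem nonempty_hh_free (C : ℕ) (N : X.Modules) (q : ℕ) :
    Nonempty (Coh.HH X (CohB1.tensorMod (FlatMod.freeMod X C) N) q ≃ₗ[A] (Fin C → Coh.HH X N q)) := by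
  classical
  let δ : Fin C → (FlatMod.freeMod X C ⟶ Coh.structureModule X) := fun i =>
    Sigma.desc fun j => if j = i then 𝟙 _ else 0
  let ι' := fun i : Fin C => Sigma.ι (fun _ : Fin C => Coh.structureModule X) i
  have hid : (∑ i, δ i ≫ ι' i) = 𝟙 (FlatMod.freeMod X C) := by
    refine Sigma.hom_ext _ _ fun j => ?_
    rw [Preadditive.comp_sum, Finset.sum_eq_single j]
    · simp [δ, ι']
    · intro i _ hij
      simp [δ, ι', Ne.symm hij]
    · simp
  refine nonempty_hh_split A (fun j => (TMul.leftUnitIso N).inv ≫ tmap (ι' j) N)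
    (fun j => tmap (δ j) N ≫ (TMul.leftUnitIso N).hom) ?_ (fun j => ?_) (fun j l h => ?_) q
  · simp only [Category.assoc, Iso.hom_inv_id_assoc, ← CohFinite.tmap_comp]
    rw [← CohFinite.tmap_sum, hid, CohFinite.tmap_id]
  · rw [Category.assoc, ← Category.assoc (tmap _ N), ← CohFinite.tmap_comp]
    simp [δ, ι', CohFinite.tmap_id]
  · rw [Category.assoc, ← Category.assoc (tmap _ N), ← CohFinite.tmap_comp]
    simp [δ, ι', h, CohFinite.tmap_zero]

include A in
theorem subsingleton_hh_free (C : ℕ) {N : X.Modules} (q : ℕ) (h : Subsingleton (Coh.HH X N q)) :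
    Subsingleton (Coh.HH X (CohB1.tensorMod (FlatMod.freeMod X C) N) q) := by
  obtain ⟨e⟩ := nonempty_hh_free A C N q
  exact e.toEquiv.subsingleton

theorem subsingleton_hh_of_isZero {M : X.Modules} (hM : IsZero M) (q : ℕ) : Subsingleton (Coh.HH X M q) :=
  CohFinite.subsingleton_of_split M (fun e : Fin 0 => e.elim0) (fun e => e.elim0) (fun e => e.elim0)
    (hM.eq_of_src _ _) q fun e => e.elim0

variable {A} {S : ShortComplex X.Modules} (hS : S.ShortExact)
include hS

theorem injective_f_succ (q : ℕ) (h₃ : Subsingleton (Coh.HH X S.X₃ q)) :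
    Function.Injective (hhMap A S.f (q + 1)) := by
  refine (injective_iff_map_eq_zero _).2 fun x hx => ?_
  obtain ⟨y, rfl⟩ := (CohFinite.map_f_eq_zero_iff (shortExact_toAb hS) q x).1 hx
  rw [h₃.elim y 0, map_zero]

theorem injective_f_zero : Function.Injective (hhMap A S.f 0) :=
  CohFinite.map_f_injective (shortExact_toAb hS)

theorem surjective_g (q : ℕ) (h₁ : Subsingleton (Coh.HH X S.X₁ (q + 1))) :
    Function.Surjective (hhMap A S.g q) := fun x =>
  (CohFinite.δH_eq_zero_iff (shortExact_toAb hS) q x).1 (h₁.elim _ _)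

theorem range_f (q : ℕ) : LinearMap.range (hhMap A S.f q) = LinearMap.ker (hhMap A S.g q) := by
  ext x
  exact (CohFinite.map_g_eq_zero_iff (shortExact_toAb hS) q x).symm

/-- The connecting map is bijective when the middle term has no cohomology. -/
theorem nonempty_δ_equiv (q : ℕ) (h₂ : Subsingleton (Coh.HH X S.X₂ q))
    (h₂' : Subsingleton (Coh.HH X S.X₂ (q + 1))) :
    Nonempty (Coh.HH X S.X₃ q ≃ₗ[A] Coh.HH X S.X₁ (q + 1)) := by
  refine ⟨LinearEquiv.ofBijective (hhδ A hS q) ⟨(injective_iff_map_eq_zero _).2 fun x hx => ?_, fun y => ?_⟩⟩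
  · obtain ⟨z, rfl⟩ := (CohFinite.δH_eq_zero_iff (shortExact_toAb hS) q x).1 hx
    rw [h₂.elim z 0]
    exact map_zero _
  · exact (CohFinite.map_f_eq_zero_iff (shortExact_toAb hS) q y).1 (h₂'.elim _ _)

end Groth.Agent.PnHodge
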