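import Groth.Agent.PnHodge.Euler
import Groth.Agent.PnHodge.Seq
import Groth.Agent.ProjCech.Main

/-!
# Cohomology of twisted differential forms on projective space
-/

set_option autoImplicit false
set_option backward.isDefEq.respectTransparency false
set_option backward.isDefEq.respectTransparency.types false
set_option linter.style.haveILetI false
set_option linter.unusedSectionVars false
set_option maxHeartbeats 1000000

universe u

open CategoryTheory CategoryTheory.Limits AlgebraicGeometry TopologicalSpace Opposite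
open Groth.Agent.SGA6Ext
open Groth.Agent.CohFinite (hhMap hhEquiv)

noncomputable section

namespace Groth.Agent.PnHodge

variable {n : ℕ} {A : Type u} [CommRing A] [QuasiSeparated (CohB1.ProjSpace.toSpec n A)]

variable (n A) in
/-- the predicate `L = Ω^p` -/
def IsOm (p : ℕ) (L : (CohB1.ProjSpace n A).Modules) : Prop :=
  ExtPow.IsExtPow p (Omega.sheaf (CohB1.ProjSpace.toSpec n A)) L

variable (n A) in
theorem exists_isOm (p : ℕ) : ∃ L, IsOm n A p L :=
  ⟨_, isExtPow_extSh (Omega.sheaf (CohB1.ProjSpace.toSpec n A)) p isFinLocFree_omega⟩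

theorem IsOm.unique {p : ℕ} {L L' : (CohB1.ProjSpace n A).Modules} (h : IsOm n A p L) (h' : IsOm n A p L') :
    Nonempty (L ≅ L') := by
  obtain ⟨φ, hφ⟩ := h
  obtain ⟨φ', hφ'⟩ := h'
  exact nonempty_iso_of_phi (φ := φ) hφ (φ' := φ') hφ'

/-- `H^q(Ω^p(d))` for a given model `L` of `Ω^p`. -/
abbrev H (L : (CohB1.ProjSpace n A).Modules) (d : ℤ) (q : ℕ) : Type _ :=
  Coh.HH (CohB1.ProjSpace n A) (CohB1.tensorMod L (Twist.twistProjSpace n A d)) q

theorem nonempty_twist_zero_iso : Nonempty (Twist.twistProjSpace n A 0 ≅ Coh.structureModule (CohB1.ProjSpace n A)) := by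
  obtain ⟨e⟩ := nonempty_tensorPow_twist n A 0
  exact ⟨e.symm⟩

theorem nonempty_zero_twist {p : ℕ} {L : (CohB1.ProjSpace n A).Modules} (hL : IsOm n A p L) :
    Nonempty (CohB1.tensorMod L (Twist.twistProjSpace n A 0) ≅ L) := by
  obtain ⟨t⟩ := nonempty_twist_zero_iso (n := n) (A := A)
  exact ⟨PicGrp.tensorModIso (Iso.refl _) t ≪≫ SecTwist.unitorR L⟩

theorem nonempty_H_zero_equiv {L : (CohB1.ProjSpace n A).Modules} (hL : IsOm n A 0 L) (d : ℤ) (q : ℕ) :
    Nonempty (H L d q ≃ₗ[A] Coh.HH (CohB1.ProjSpace n A) (Twist.twistProjSpace n A d) q) := by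
  obtain ⟨e⟩ := hL.unique (isExtPow_zero _)
  exact ⟨hhEquiv A (PicGrp.tensorModIso e (Iso.refl _) ≪≫ TMul.leftUnitIso _) q⟩

theorem subsingleton_of_big {p : ℕ} (hp : n < p) {L : (CohB1.ProjSpace n A).Modules} (hL : IsOm n A p L)
    (d : ℤ) (q : ℕ) : Subsingleton (H L d q) :=
  subsingleton_hh_of_isZero ((PnReg.isZero_tensor_right (isZero_extPow_omega hp hL) _).of_iso (TMul.commIso _ _)) q

/-- The sequence with the cohomology of the middle term computed. -/
theorem exists_seq' (p : ℕ) {L L' : (CohB1.ProjSpace n A).Modules} (hL : IsOm n A p L)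
    (hL' : IsOm n A (p + 1) L') (d : ℤ) :
    ∃ S : ShortComplex (CohB1.ProjSpace n A).Modules, S.ShortExact ∧ ∀ q,
      Nonempty (Coh.HH (CohB1.ProjSpace n A) S.X₁ q ≃ₗ[A] H L' d q) ∧
      Nonempty (Coh.HH (CohB1.ProjSpace n A) S.X₂ q ≃ₗ[A] (Fin ((n + 1).choose (p + 1)) →
        Coh.HH (CohB1.ProjSpace n A) (Twist.twistProjSpace n A (d - (p + 1 : ℕ))) q)) ∧
      Nonempty (Coh.HH (CohB1.ProjSpace n A) S.X₃ q ≃ₗ[A] H L d q) := by
  obtain ⟨S, hS, ⟨a⟩, ⟨b⟩, ⟨c⟩⟩ := exists_seq p hL hL' d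
  refine ⟨S, hS, fun q => ⟨⟨hhEquiv A a q⟩, ?_, ⟨hhEquiv A c q⟩⟩⟩
  obtain ⟨e⟩ := nonempty_hh_free A ((n + 1).choose (p + 1)) (Twist.twistProjSpace n A (d - (p + 1 : ℕ))) q
  exact ⟨hhEquiv A b q ≪≫ₗ e⟩

theorem step_down (p : ℕ) {d : ℤ} {q : ℕ}
    (h₂ : Subsingleton (Coh.HH (CohB1.ProjSpace n A) (Twist.twistProjSpace n A (d - (p + 1 : ℕ))) q))
    (h₁ : ∀ L, IsOm n A (p + 1) L → Subsingleton (H L d (q + 1)))
    (L : (CohB1.ProjSpace n A).Modules) (hL : IsOm n A p L) : Subsingleton (H L d q) := by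
  obtain ⟨L', hL'⟩ := exists_isOm n A (p + 1)
  obtain ⟨S, hS, he⟩ := exists_seq' p hL hL' d
  obtain ⟨-, ⟨b⟩, ⟨c⟩⟩ := he q
  obtain ⟨⟨a⟩, -, -⟩ := he (q + 1)
  haveI := h₂
  haveI := b.toEquiv.subsingleton
  exact c.toEquiv.subsingleton_congr.1
    (surjective_g (A := A) hS q (a.toEquiv.subsingleton_congr.2 (h₁ L' hL'))).subsingleton

theorem step_up_zero (p : ℕ) {d : ℤ}
    (h₂ : Subsingleton (Coh.HH (CohB1.ProjSpace n A) (Twist.twistProjSpace n A (d - (p + 1 : ℕ))) 0))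
    (L' : (CohB1.ProjSpace n A).Modules) (hL' : IsOm n A (p + 1) L') : Subsingleton (H L' d 0) := by
  obtain ⟨L, hL⟩ := exists_isOm n A p
  obtain ⟨S, hS, he⟩ := exists_seq' p hL hL' d
  obtain ⟨⟨a⟩, ⟨b⟩, -⟩ := he 0
  haveI := h₂
  haveI := b.toEquiv.subsingleton
  exact a.toEquiv.subsingleton_congr.1 (injective_f_zero (A := A) hS).subsingleton

theorem step_up_succ (p : ℕ) {d : ℤ} {q : ℕ}
    (h₂ : Subsingleton (Coh.HH (CohB1.ProjSpace n A) (Twist.twistProjSpace n A (d - (p + 1 : ℕ))) (q + 1)))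
    (h₃ : ∀ L, IsOm n A p L → Subsingleton (H L d q))
    (L' : (CohB1.ProjSpace n A).Modules) (hL' : IsOm n A (p + 1) L') : Subsingleton (H L' d (q + 1)) := by
  obtain ⟨L, hL⟩ := exists_isOm n A p
  obtain ⟨S, hS, he⟩ := exists_seq' p hL hL' d
  obtain ⟨⟨a⟩, ⟨b⟩, -⟩ := he (q + 1)
  obtain ⟨-, -, ⟨c⟩⟩ := he q
  haveI := h₂
  haveI := b.toEquiv.subsingleton
  exact a.toEquiv.subsingleton_congr.1
    (injective_f_succ (A := A) hS q (c.toEquiv.subsingleton_congr.2 (h₃ L hL))).subsingleton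

theorem vanish_high : ∀ (p : ℕ) (d : ℤ) (q : ℕ), (n < q ∨ (0 < d ∧ 0 < q)) →
    ∀ L, IsOm n A p L → Subsingleton (H L d q) := by
  suffices ∀ (j p : ℕ), n < p + j → ∀ (d : ℤ) (q : ℕ), (n < q ∨ (0 < d ∧ 0 < q)) →
      ∀ L, IsOm n A p L → Subsingleton (H L d q) from fun p => this (n + 1) p (by omega)
  intro j
  induction j with
  | zero => exact fun p hp d q _ L hL => subsingleton_of_big (by omega) hL d q
  | succ j ih =>
    intro p hp d q hq L hL
    by_cases h : n < p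
    · exact subsingleton_of_big h hL d q
    exact step_down p (ProjCech.twist_vanish n _ q (by omega) (by omega))
      (ih (p + 1) (by omega) d (q + 1) (by omega)) L hL

theorem vanish_neg : ∀ (p : ℕ) (d : ℤ) (q : ℕ), d < 0 → q < n →
    ∀ L, IsOm n A p L → Subsingleton (H L d q) := by
  intro p
  induction p with
  | zero =>
    intro d q hd hq L hL
    obtain ⟨e⟩ := nonempty_H_zero_equiv hL d q
    exact e.toEquiv.subsingleton_congr.2 (ProjCech.twist_vanish n d q (by omega) (by omega))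
  | succ p ih =>
    intro d q hd hq
    rcases q with _ | q
    · exact step_up_zero p (ProjCech.twist_vanish n _ 0 (by omega) (by omega))
    · exact step_up_succ p (ProjCech.twist_vanish n _ _ (by omega) (by omega)) (ih d q hd (by omega))

theorem vanish_low : ∀ (p q : ℕ), q < n → p ≠ q → ∀ L, IsOm n A p L → Subsingleton (H L 0 q) := by
  intro p
  induction p with
  | zero =>
    intro q hq hne L hL
    obtain ⟨e⟩ := nonempty_H_zero_equiv hL 0 q
    exact e.toEquiv.subsingleton_congr.2 (ProjCech.twist_vanish n 0 q (by omega) (by omega))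
  | succ p ih =>
    intro q hq hne
    rcases q with _ | q
    · exact step_up_zero p (ProjCech.twist_vanish n _ 0 (by omega) (by omega))
    · exact step_up_succ p (ProjCech.twist_vanish n _ _ (by omega) (by omega)) (ih q (by omega) (by omega))

/-- All the vanishing. -/
theorem vanish (p : ℕ) (d : ℤ) (q : ℕ) (h₀ : ¬(d = 0 ∧ q = p ∧ p ≤ n)) (hpos : ¬(0 < d ∧ q = 0))
    (hneg : ¬(d < 0 ∧ q = n)) (L : (CohB1.ProjSpace n A).Modules) (hL : IsOm n A p L) :
    Subsingleton (H L d q) := by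
  rcases lt_trichotomy q n with hq | rfl | hq
  · rcases lt_trichotomy d 0 with hd | rfl | hd
    · exact vanish_neg p d q hd hq L hL
    · exact vanish_low p q hq (by omega) L hL
    · exact vanish_high p d q (Or.inr ⟨hd, by omega⟩) L hL
  · by_cases hp : q < p
    · exact subsingleton_of_big hp hL d q
    rcases lt_trichotomy d 0 with hd | rfl | hd
    · exact absurd ⟨hd, rfl⟩ hneg
    · exact step_down p (ProjCech.twist_vanish q _ q (by omega) (by omega))
        (fun L' hL' => vanish_high (p + 1) 0 (q + 1) (Or.inl (Nat.lt_succ_self q)) L' hL') L hL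
    · exact vanish_high p d q (Or.inr ⟨hd, by omega⟩) L hL
  · exact vanish_high p d q (Or.inl hq) L hL

theorem nonempty_H_diag : ∀ (p : ℕ), p ≤ n → ∀ L, IsOm n A p L → Nonempty (H L 0 p ≃ₗ[A] A) := by
  intro p
  induction p with
  | zero =>
    intro _ L hL
    obtain ⟨e⟩ := nonempty_H_zero_equiv hL 0 0
    obtain ⟨z⟩ := ProjCech.zero_equiv (R := A) n 0
    have h1 : Nonempty (↥((Finset.univ : Finset (Fin (n + 1))).finsuppAntidiag 0)) :=
      ⟨⟨0, Finset.mem_finsuppAntidiag.2 ⟨by simp, by simp⟩⟩⟩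
    haveI : Subsingleton (↥((Finset.univ : Finset (Fin (n + 1))).finsuppAntidiag 0)) := ⟨fun a b => by
      refine Subtype.ext (Finsupp.ext fun i => ?_)
      have h := fun c : ↥((Finset.univ : Finset (Fin (n + 1))).finsuppAntidiag 0) =>
        Finset.sum_eq_zero_iff.1 (Finset.mem_finsuppAntidiag.1 c.2).1 i (Finset.mem_univ i)
      rw [h a, h b]⟩
    letI : Unique (↥((Finset.univ : Finset (Fin (n + 1))).finsuppAntidiag 0)) := uniqueOfSubsingleton h1.some
    exact ⟨e ≪≫ₗ z ≪≫ₗ TwistPairing.coeffEquiv n 0 ≪≫ₗ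
      LinearEquiv.funUnique _ A A⟩
  | succ p ih =>
    intro hp L' hL'
    obtain ⟨L, hL⟩ := exists_isOm n A p
    obtain ⟨S, hS, he⟩ := exists_seq' p hL hL' 0
    obtain ⟨-, ⟨b⟩, ⟨c⟩⟩ := he p
    obtain ⟨⟨a⟩, ⟨b'⟩, -⟩ := he (p + 1)
    haveI : Subsingleton (Coh.HH (CohB1.ProjSpace n A) (Twist.twistProjSpace n A ((0 : ℤ) - (p + 1 : ℕ))) p) :=
      ProjCech.twist_vanish n _ p (by omega) (by omega)
    haveI : Subsingleton (Coh.HH (CohB1.ProjSpace n A) (Twist.twistProjSpace n A ((0 : ℤ) - (p + 1 : ℕ))) (p + 1)) :=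
      ProjCech.twist_vanish n _ (p + 1) (by omega) (by omega)
    obtain ⟨δ⟩ := nonempty_δ_equiv (A := A) hS p b.toEquiv.subsingleton b'.toEquiv.subsingleton
    obtain ⟨i⟩ := ih (by omega) L hL
    exact ⟨a.symm ≪≫ₗ δ.symm ≪≫ₗ c ≪≫ₗ i⟩

theorem nonempty_hh_om {p : ℕ} {L : (CohB1.ProjSpace n A).Modules} (hL : IsOm n A p L) (q : ℕ) :
    Nonempty (H L 0 q ≃ₗ[A] Coh.HH (CohB1.ProjSpace n A) L q) := by
  obtain ⟨e⟩ := nonempty_zero_twist hL
  exact ⟨hhEquiv A e q⟩

end Groth.Agent.PnHodge
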