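import Groth.Agent.PnHodge.TwistExt
import Groth.Agent.PnReg.WedgeLine
import Groth.Agent.PBundle.TopPower
import Groth.Agent.CycPB.ProjFree
import Groth.Agent.TwistPairing.Main
import Groth.Agent.OmegaLib.FiniteType
import Groth.Agent.ProjMor.ProjSpaceBase

/-!
# The sequences `0 → Ω^{p+1}(d) → O(d-p-1)^{C(n+1,p+1)} → Ω^p(d) → 0` on projective space
-/

set_option autoImplicit false
set_option backward.isDefEq.respectTransparency false
set_option backward.isDefEq.respectTransparency.types false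
set_option linter.style.haveILetI false
set_option maxHeartbeats 1000000

universe u

open CategoryTheory CategoryTheory.Limits AlgebraicGeometry TopologicalSpace Opposite
open Groth.Agent.QC (res resO res_res res_smul app_res)
open Groth.Agent.SGA6Ext

noncomputable section

namespace Groth.Agent.PnHodge

section General

variable {X : Scheme.{u}}

theorem isExtPow_congr_source {p : ℕ} {E E' L : X.Modules} (e : E ≅ E') (h : ExtPow.IsExtPow p E L) :
    ExtPow.IsExtPow p E' L := by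
  obtain ⟨φ, hφ⟩ := h
  have hl : ∀ V x, secMap e.hom V (secMap e.inv V x) = x := fun V x =>
    congrArg (fun χ : E' ⟶ E' => χ.app V (show Γ(E', V) from x)) e.inv_hom_id
  have hr : ∀ V x, secMap e.inv V (secMap e.hom V x) = x := fun V x =>
    congrArg (fun χ : E ⟶ E => χ.app V (show Γ(E, V) from x)) e.hom_inv_id
  let m : ∀ V : X.affineOpens,
      ↥(⋀[Γ(X, V.1)]^p (Sec E V.1)) ≃ₗ[Γ(X, V.1)] ↥(⋀[Γ(X, V.1)]^p (Sec E' V.1)) := fun V =>
    LinearEquiv.ofLinear (exteriorPower.map p (secMap e.hom V.1)) (exteriorPower.map p (secMap e.inv V.1))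
      (by rw [← exteriorPower.map_comp, show secMap e.hom V.1 ∘ₗ secMap e.inv V.1 = LinearMap.id from
        LinearMap.ext (hl V.1), exteriorPower.map_id])
      (by rw [← exteriorPower.map_comp, show secMap e.inv V.1 ∘ₗ secMap e.hom V.1 = LinearMap.id from
        LinearMap.ext (hr V.1), exteriorPower.map_id])
  refine ⟨fun V => (φ V).trans (m V), fun U V h v => ?_⟩
  change secRes L h ((φ U).symm ((m U).symm _)) = (φ V).symm ((m V).symm _)
  have hm : ∀ (W : X.affineOpens) (w : Fin p → Sec E' W.1),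
      (m W).symm (exteriorPower.ιMulti _ p w) = exteriorPower.ιMulti _ p fun i => secMap e.inv W.1 (w i) :=
    fun W w => exteriorPower.map_apply_ιMulti _ _
  rw [hm U v, hm V]
  refine (hφ U V h _).trans ?_
  exact congrArg (fun w => (φ V).symm (exteriorPower.ιMulti _ p w))
    (funext fun i => app_res e.inv h (show Γ(E', U.1) from v i))

variable {N : ℕ} {E O : X.Modules}

/-- The sequences of exterior powers of a line quotient of a free module, with the powers of the kernel. -/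
theorem exists_koszul_kernel (e : E ≅ FlatMod.freeMod X (N + 1)) (hO : FlatMod.IsFinLocFreeOfRank 1 O)
    (q : E ⟶ O) [Epi q] (i : ℕ) :
    ∃ S : ShortComplex X.Modules, S.ShortExact ∧
      Nonempty (S.X₁ ≅ extSh (kernel q) (i + 1)) ∧ Nonempty (S.X₂ ≅ FlatMod.freeMod X ((N + 1).choose (i + 1))) ∧
      Nonempty (S.X₃ ≅ CohB1.tensorMod (extSh (kernel q) i) O) := by
  have hfree : FlatMod.IsFinLocFree (FlatMod.freeMod X (N + 1)) :=
    ResDesc.isFinLocFree_of_frames fun x => ⟨⊤, _, _, trivial, W7Strat.isFrame_freeMod X (N + 1)⟩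
  have hE : FlatMod.IsFinLocFree E := DQCoh.isFinLocFree_of_iso' e.symm hfree
  have hLf := finLocFree_of_rank hO
  have hM : FlatMod.IsFinLocFree (kernel q) := DCohLocus.isFinLocFree_kernel q hE hLf
  let S₀ := ShortComplex.mk (kernel.ι q) q (kernel.condition q)
  have hS₀ : S₀.ShortExact := { exact := ShortComplex.exact_kernel q }
  choose φM hφM using fun k => isExtPow_extSh (kernel q) k hM
  choose φE hφE using fun k => isExtPow_extSh E k hE
  choose φL hφL using fun k => isExtPow_extSh O k hLf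
  let D : Sys S₀ :=
    { L' := fun k => extSh (kernel q) k, L := fun k => extSh E k, L'' := fun k => extSh O k
      φ' := φM, φ := φE, φ'' := φL
      hφ' := hφM, hφ := hφE, hφ'' := hφL
      hL' := fun k => isFinLocFree_extSh _ k hM, hL := fun k => isFinLocFree_extSh _ k hE
      hL'' := fun k => isFinLocFree_extSh _ k hLf
      hS := hS₀, h₁ := hM, h₂ := hE, h₃ := hLf }
  obtain ⟨φ₀, hφ₀⟩ := isExtPow_zero O
  obtain ⟨a₀⟩ := nonempty_iso_of_phi (φ := φL 0) (hφL 0) (φ' := φ₀) hφ₀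
  obtain ⟨φ₁, hφ₁⟩ := isExtPow_one O
  obtain ⟨a₁⟩ := nonempty_iso_of_phi (φ := φL 1) (hφL 1) (φ' := φ₁) hφ₁
  have hQ0 : ∀ n k, k + 1 ≤ n → IsZero (Q D n k) := fun n k => by
    induction k with
    | zero => exact fun _ => isZero_Q_zero D n
    | succ k ih =>
      intro hk
      exact PnReg.isZero_middle (shortExact_gr D n k (by omega))
        (PnReg.isZero_tensor_right (PnReg.isZero_extSh_line hO (by omega)) _) (ih (by omega))
  have hiso : Nonempty (CohB1.tensorMod (extSh (kernel q) i) O ≅ Q D (i + 1) (i + 1)) := by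
    haveI := (shortExact_gr D (i + 1) i (by omega)).mono_f
    haveI : Epi (gamma D (i + 1) i) :=
      (shortExact_gr D (i + 1) i (by omega)).exact.epi_f ((hQ0 (i + 1) i le_rfl).eq_of_tgt _ _)
    haveI : IsIso (gamma D (i + 1) i) := isIso_of_mono_of_epi _
    exact ⟨PicGrp.tensorModIso (Iso.refl _) (a₁.symm ≪≫ eqToIso (by rw [Nat.add_sub_cancel_left])) ≪≫
      asIso (gamma D (i + 1) i)⟩
  haveI : IsIso (prj D (i + 1) (i + 1 + 1)) := cokernel.π_of_zero (psi_eq_zero D (i + 1))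
  obtain ⟨f⟩ := PnReg.nonempty_extSh_free e (i + 1)
  obtain ⟨g⟩ := hiso
  refine ⟨_, shortExact_gr D (i + 1) (i + 1) le_rfl, ⟨?_⟩,
    ⟨(asIso (prj D (i + 1) (i + 1 + 1))).symm ≪≫ f⟩, ⟨g.symm⟩⟩
  exact PicGrp.tensorModIso (Iso.refl _) (eqToIso (by rw [Nat.sub_self]) ≪≫ a₀) ≪≫
    TMul.commIso _ (Coh.structureModule X) ≪≫ TMul.leftUnitIso _

/-- The sequences of exterior powers, in terms of exterior powers of the untwisted kernel. -/
theorem exists_seq_gen {Ω : X.Modules} {q : E ⟶ O} (ε : CohB1.tensorMod Ω O ≅ kernel q) (hq : Epi q)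
    (e : E ≅ FlatMod.freeMod X (N + 1)) (hO : FlatMod.IsFinLocFreeOfRank 1 O) (hΩ : FlatMod.IsFinLocFree Ω)
    (hinv : PicF.IsInvertible O) (p : ℕ) {L L' : X.Modules} (hL : ExtPow.IsExtPow p Ω L)
    (hL' : ExtPow.IsExtPow (p + 1) Ω L') :
    ∃ S : ShortComplex X.Modules, S.ShortExact ∧
      Nonempty (S.X₁ ≅ CohB1.tensorMod L' (CohB1.tensorPow O (p + 1))) ∧
      Nonempty (S.X₂ ≅ FlatMod.freeMod X ((N + 1).choose (p + 1))) ∧
      Nonempty (S.X₃ ≅ CohB1.tensorMod (CohB1.tensorMod L (CohB1.tensorPow O p)) O) := by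
  haveI := hq
  have hK : FlatMod.IsFinLocFree (kernel q) :=
    DQCoh.isFinLocFree_of_iso' ε (DerPerf.isFinLocFree_tensor hΩ (finLocFree_of_rank hO))
  obtain ⟨S, hS, ⟨a⟩, hb, ⟨c⟩⟩ := exists_koszul_kernel e hO q p
  have key : ∀ (i : ℕ) (M : X.Modules), ExtPow.IsExtPow i Ω M →
      Nonempty (extSh (kernel q) i ≅ CohB1.tensorMod M (CohB1.tensorPow O i)) := fun i M hM => by
    obtain ⟨f⟩ := nonempty_iso_twist hinv hM (isExtPow_congr_source ε.symm (isExtPow_extSh (kernel q) i hK))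
    exact ⟨f.symm⟩
  obtain ⟨k⟩ := key p L hL
  obtain ⟨k'⟩ := key (p + 1) L' hL'
  exact ⟨S, hS, ⟨a ≪≫ k'⟩, hb, ⟨c ≪≫ PicGrp.tensorModIso k (Iso.refl _)⟩⟩

end General

variable {n : ℕ} {A : Type u} [CommRing A]

theorem quasiSeparated_toSpec (n : ℕ) (A : Type u) [CommRing A] :
    QuasiSeparated (CohB1.ProjSpace.toSpec n A) := by
  haveI := ProjMor.isProper_toSpec n A
  infer_instance

theorem exists_frame_omega (x : CohB1.ProjSpace n A) :
    ∃ (U : (CohB1.ProjSpace n A).Opens) (e : Fin n → Γ(Omega.sheaf (CohB1.ProjSpace.toSpec n A), U)),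
      x ∈ U ∧ TMul.IsFrame e := by
  haveI := quasiSeparated_toSpec n A
  obtain ⟨i, hi⟩ := PBundle.exists_idx (CycPB.isProjBundle_projSpace n A) x
  exact ⟨_, _, hi, PBundle.isFrame_dci i (CycPB.isProjBundle_projSpace n A) (OmegaLib.isUniversal_dOmega _)⟩

theorem isFinLocFree_omega : FlatMod.IsFinLocFree (Omega.sheaf (CohB1.ProjSpace.toSpec n A)) :=
  ResDesc.isFinLocFree_of_frames fun x => by
    obtain ⟨U, e, hx, he⟩ := exists_frame_omega x
    exact ⟨U, n, e, hx, he⟩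

theorem isZero_extPow_omega {p : ℕ} (hp : n < p) {L : (CohB1.ProjSpace n A).Modules}
    (hL : ExtPow.IsExtPow p (Omega.sheaf (CohB1.ProjSpace.toSpec n A)) L) : IsZero L := by
  obtain ⟨φ, hφ⟩ := hL
  obtain ⟨ψ, hψ⟩ := isExtPow_extSh (Omega.sheaf (CohB1.ProjSpace.toSpec n A)) p isFinLocFree_omega
  obtain ⟨i⟩ := nonempty_iso_of_phi (φ := φ) hφ (φ' := ψ) hψ
  refine IsZero.of_iso (isZero_of_rank_zero (W7Strat.isFinLocFreeOfRank_of_frames fun x => ?_)) i
  obtain ⟨U, e, hx, he⟩ := exists_frame_omega (A := A) x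
  obtain ⟨f, hf⟩ := exists_frame_extSh _ p he
  have h0 : Nat.choose n p = 0 := Nat.choose_eq_zero_of_lt hp
  revert f
  rw [h0]
  exact fun f hf => ⟨U, f, hx, hf⟩

theorem nonempty_tensorPow_twist (n : ℕ) (A : Type u) [CommRing A] (m : ℕ) :
    Nonempty (CohB1.tensorPow (Twist.twistProjSpace n A 1) m ≅ Twist.twistProjSpace n A (m : ℤ)) := by
  obtain ⟨e⟩ := GrT.nonempty_iso_tensorPow (𝒜 := CohB1.polyGrading n A) (CohFinite.cov_one n A) m
  exact ⟨e.symm⟩

/-- `L(a)(b) ≅ L(c)` for `a + b = c`. -/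
theorem nonempty_tw_tw (F : (CohB1.ProjSpace n A).Modules) (a b c : ℤ) (h : a + b = c) :
    Nonempty (CohB1.tensorMod (CohB1.tensorMod F (Twist.twistProjSpace n A a)) (Twist.twistProjSpace n A b) ≅
      CohB1.tensorMod F (Twist.twistProjSpace n A c)) := by
  obtain ⟨e⟩ := TwistPairing.nonempty_twist_twist (R := A) n a b c h
  exact ⟨TMul.assocIso _ _ _ ≪≫ PicGrp.tensorModIso (Iso.refl _) e⟩

/-- The twisted Euler sequences in all degrees. -/
theorem exists_seq (p : ℕ) {L L' : (CohB1.ProjSpace n A).Modules}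
    (hL : ExtPow.IsExtPow p (Omega.sheaf (CohB1.ProjSpace.toSpec n A)) L)
    (hL' : ExtPow.IsExtPow (p + 1) (Omega.sheaf (CohB1.ProjSpace.toSpec n A)) L') (d : ℤ) :
    ∃ S : ShortComplex (CohB1.ProjSpace n A).Modules, S.ShortExact ∧
      Nonempty (S.X₁ ≅ CohB1.tensorMod L' (Twist.twistProjSpace n A d)) ∧
      Nonempty (S.X₂ ≅ CohB1.tensorMod (FlatMod.freeMod _ ((n + 1).choose (p + 1)))
        (Twist.twistProjSpace n A (d - (p + 1 : ℕ)))) ∧
      Nonempty (S.X₃ ≅ CohB1.tensorMod L (Twist.twistProjSpace n A d)) := by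
  haveI := quasiSeparated_toSpec n A
  have hP := CycPB.isProjBundle_projSpace n A
  obtain ⟨ε⟩ := PBundle.euler_sequence hP
    (ResDesc.isFinLocFree_of_frames fun x => ⟨⊤, _, _, trivial, W7Strat.isFrame_freeMod _ (n + 1)⟩)
    (OmegaLib.isUniversal_dOmega (CohB1.ProjSpace.toSpec n A))
  obtain ⟨S, hS, ⟨a⟩, ⟨b⟩, ⟨c⟩⟩ := exists_seq_gen ε hP.epi (DerPerf.pullFreeIso _ (n + 1)) hP.invertible
    isFinLocFree_omega (CohFinite.isInvertible_twist n A 1) p hL hL'
  obtain ⟨u₁⟩ := nonempty_tensorPow_twist n A (p + 1)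
  obtain ⟨u₀⟩ := nonempty_tensorPow_twist n A p
  obtain ⟨t₁⟩ := nonempty_tw_tw L' ((p + 1 : ℕ) : ℤ) (d - (p + 1 : ℕ)) d (by omega)
  obtain ⟨t₂⟩ := nonempty_tw_tw L (p : ℤ) 1 ((p + 1 : ℕ) : ℤ) (by omega)
  obtain ⟨t₃⟩ := nonempty_tw_tw L ((p + 1 : ℕ) : ℤ) (d - (p + 1 : ℕ)) d (by omega)
  refine ⟨_, CohFinite.shortExact_tmap (CohFinite.isInvertible_twist n A (d - (p + 1 : ℕ))) hS, ⟨?_⟩, ⟨?_⟩, ⟨?_⟩⟩
  · exact PicGrp.tensorModIso (a ≪≫ PicGrp.tensorModIso (Iso.refl _) u₁) (Iso.refl _) ≪≫ t₁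
  · exact PicGrp.tensorModIso b (Iso.refl _)
  · exact PicGrp.tensorModIso (c ≪≫ PicGrp.tensorModIso (PicGrp.tensorModIso (Iso.refl _) u₀) (Iso.refl _) ≪≫ t₂)
      (Iso.refl _) ≪≫ t₃

end Groth.Agent.PnHodge
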