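import Groth.Agent.ExtBC.Tilde
import Groth.Agent.QC.Coherent
import Groth.Agent.OmegaLib.FiniteType
import Groth.Agent.OmegaLib.Smooth
import Mathlib.LinearAlgebra.ExteriorPower.Basis

/-!
# Exterior powers of coherent modules are coherent
-/

set_option autoImplicit false
set_option backward.isDefEq.respectTransparency false
set_option backward.isDefEq.respectTransparency.types false
set_option linter.style.haveILetI false
set_option linter.unusedSectionVars false
set_option maxHeartbeats 1000000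

universe u

open CategoryTheory CategoryTheory.Limits AlgebraicGeometry TopologicalSpace Opposite
open Groth.Agent.QC (res resO res_res res_smul res_self IsLoc)

noncomputable section

namespace Groth.Agent.PnHodge.ExtCoh

variable {X : Scheme.{u}}

/-- functions on a larger open acting on a smaller one -/
abbrev algRes {U V : X.Opens} (h : V ≤ U) : Algebra Γ(X, U) Γ(X, V) := (resO X h).toAlgebra

/-- sections on a smaller open as a module over the larger one -/
abbrev modRes (M : X.Modules) {U V : X.Opens} (h : V ≤ U) : Module Γ(X, U) Γ(M, V) :=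
  Module.compHom _ (resO X h)

theorem tower (M : X.Modules) {U V : X.Opens} (h : V ≤ U) :
    letI := algRes h
    letI := modRes M h
    IsScalarTower Γ(X, U) Γ(X, V) Γ(M, V) := by
  letI := algRes h
  letI := modRes M h
  exact IsScalarTower.of_algebraMap_smul fun _ _ => rfl

/-- restriction as a linear map -/
abbrev resLin (M : X.Modules) {U V : X.Opens} (h : V ≤ U) :
    letI := modRes M h
    Γ(M, U) →ₗ[Γ(X, U)] Γ(M, V) :=
  letI := modRes M h
  { toFun := res M h
    map_add' := map_add _
    map_smul' := res_smul M h }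

theorem isBaseChange_res {M : X.Modules} (hM : Coh.IsQCoh M) {U V : X.Opens} (hU : IsAffineOpen U)
    (hV : IsAffineOpen V) (h : V ≤ U) :
    letI := algRes h
    letI := modRes M h
    haveI := tower M h
    IsBaseChange Γ(X, V) (resLin M h) := by
  letI := algRes h
  letI := modRes M h
  haveI := tower M h
  refine IsBaseChange.of_lift_unique _ fun Q _ _ _ _ g => ?_
  letI : AddCommGroup Q := Module.addCommMonoidToAddCommGroup Γ(X, V)
  obtain ⟨f, hf, huniq⟩ := ExtBC.existsUnique_res hM hU hV h Q g.toAddMonoidHom fun r x => by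
    change g (r • x) = _
    rw [map_smul]
    exact (IsScalarTower.algebraMap_smul Γ(X, V) r (g x)).symm
  exact ⟨f, LinearMap.ext hf, fun f' hf' => huniq f' (LinearMap.congr_fun hf')⟩

variable {Ω L : X.Modules} {n : ℕ}
  (φ : ∀ U : X.affineOpens, Γ(L, U.1) ≃ₗ[Γ(X, U.1)] ↥(⋀[Γ(X, U.1)]^n Γ(Ω, U.1)))
  (hφ : ∀ (U V : X.affineOpens) (h : V.1 ≤ U.1) (e : Fin n → Γ(Ω, U.1)),
    res L h ((φ U).symm (exteriorPower.ιMulti _ n e)) = (φ V).symm (exteriorPower.ιMulti _ n fun j => res Ω h (e j)))

include hφ in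
theorem isBaseChange_extPow (hΩ : Coh.IsQCoh Ω) (U V : X.affineOpens) (h : V.1 ≤ U.1) :
    letI := algRes h
    letI := modRes L h
    haveI := tower L h
    IsBaseChange Γ(X, V.1) (resLin L h) := by
  letI := algRes h
  letI := modRes L h
  letI := modRes Ω h
  haveI := tower L h
  haveI := tower Ω h
  have hE := ExtBC.isBaseChange_extMap (isBaseChange_res hΩ U.2 V.2 h) n
  have hcomp : resLin L h =
      ((φ V).symm.toLinearMap.restrictScalars Γ(X, U.1)).comp
        ((ExtBC.extMap Γ(X, V.1) (resLin Ω h) n).comp (φ U).toLinearMap) := by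
    have key : (resLin L h).comp (φ U).symm.toLinearMap =
        ((φ V).symm.toLinearMap.restrictScalars Γ(X, U.1)).comp (ExtBC.extMap Γ(X, V.1) (resLin Ω h) n) := by
      refine exteriorPower.linearMap_ext (AlternatingMap.ext fun e => ?_)
      simp only [LinearMap.compAlternatingMap_apply, LinearMap.comp_apply]
      rw [ExtBC.extMap_ιMulti]
      exact hφ U V h e
    refine LinearMap.ext fun x => ?_
    have := LinearMap.congr_fun key ((φ U) x)
    simp only [LinearMap.comp_apply, LinearEquiv.coe_coe, LinearEquiv.symm_apply_apply] at this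
    exact this
  rw [hcomp]
  have hE' := IsBaseChange.comp_equiv (φ U) (ExtBC.extMap Γ(X, V.1) (resLin Ω h) n) hE
  exact IsBaseChange.of_equiv (hE'.equiv ≪≫ₗ (φ V).symm) fun x => by
    rw [LinearEquiv.trans_apply, hE'.equiv_tmul, one_smul]
    rfl

include hφ in
theorem isLoc (hΩ : Coh.IsQCoh Ω) (U : X.affineOpens) : IsLoc L U.1 := by
  have key : ∀ g : Γ(X, U.1),
      letI := algRes (X.basicOpen_le g)
      letI := modRes L (X.basicOpen_le g)
      IsLocalizedModule (Submonoid.powers g) (resLin L (X.basicOpen_le g)) := fun g => by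
    letI := algRes (X.basicOpen_le g)
    letI := modRes L (X.basicOpen_le g)
    haveI := tower L (X.basicOpen_le g)
    haveI : IsLocalization (Submonoid.powers g) Γ(X, X.basicOpen g) := U.2.isLocalization_basicOpen g
    exact (isLocalizedModule_iff_isBaseChange (Submonoid.powers g) Γ(X, X.basicOpen g) _).2
      (isBaseChange_extPow φ hφ hΩ U ⟨_, U.2.basicOpen g⟩ (X.basicOpen_le g))
  refine ⟨fun g t => ?_, fun g s hs => ?_⟩
  · letI := algRes (X.basicOpen_le g)
    letI := modRes L (X.basicOpen_le g)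
    haveI := key g
    obtain ⟨⟨a, ⟨c, m, rfl⟩⟩, hx⟩ := IsLocalizedModule.surj (Submonoid.powers g) (resLin L (X.basicOpen_le g)) t
    refine ⟨m, a, ?_⟩
    rw [← map_pow]
    exact hx.symm
  · letI := algRes (X.basicOpen_le g)
    letI := modRes L (X.basicOpen_le g)
    haveI := key g
    obtain ⟨⟨c, m, rfl⟩, hm⟩ := IsLocalizedModule.exists_of_eq (S := Submonoid.powers g)
      (f := resLin L (X.basicOpen_le g)) (x₁ := s) (x₂ := 0) (hs.trans (map_zero _).symm)
    refine ⟨m, ?_⟩
    have hm' : g ^ m • s = g ^ m • (0 : Γ(L, U.1)) := hm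
    rwa [smul_zero] at hm'

theorem isCoh_of_isExtPow (hΩ : Coh.IsCoh Ω) (hL : ExtPow.IsExtPow n Ω L) : Coh.IsCoh L := by
  obtain ⟨φ, hφ⟩ := hL
  haveI : Ω.IsQuasicoherent := hΩ.1
  refine (QC.isCoh_iff_finite_sections).2 ⟨QC.isQCoh_iff_isLoc.2 (isLoc φ hφ hΩ.1), fun U => ?_⟩
  haveI : Module.Finite Γ(X, U.1) Γ(Ω, U.1) := QC.finite_sections U.2 hΩ.2
  haveI : Module.Finite Γ(X, U.1) ↥(⋀[Γ(X, U.1)]^n Γ(Ω, U.1)) := exteriorPower.instFinite ..
  exact Module.Finite.equiv (φ U).symm

theorem subsingleton_extPow {R M : Type u} [CommRing R] [AddCommGroup M] [Module R M] {N p : ℕ}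
    (f : (Fin N → R) →ₗ[R] M) (hf : Function.Surjective f) (hp : N < p) : Subsingleton ↥(⋀[R]^p M) := by
  haveI : IsEmpty (Set.powersetCard (Fin N) p) := ⟨fun s => by
    have h1 := Finset.card_le_univ (s : Finset (Fin N))
    rw [Fintype.card_fin, Set.powersetCard.mem_iff.1 s.2] at h1
    omega⟩
  haveI : Subsingleton ↥(⋀[R]^p (Fin N → R)) := ((Pi.basisFun R (Fin N)).exteriorPower p).repr.toEquiv.subsingleton
  exact (exteriorPower.map_surjective hf).subsingleton

/-- High exterior powers of a coherent module on a quasi-compact scheme vanish. -/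
theorem exists_isZero_of_big [CompactSpace X] (hΩ : Coh.IsCoh Ω) :
    ∃ N : ℕ, ∀ (p : ℕ) (L : X.Modules), N < p → ExtPow.IsExtPow p Ω L → IsZero L := by
  haveI : Ω.IsQuasicoherent := hΩ.1
  obtain ⟨ι, hι, V, hV, -, hcov⟩ := QC.exists_finite_affine_cover (X := X) (W := ⊤) (by simpa using isCompact_univ)
  haveI := hι
  letI := Fintype.ofFinite ι
  have hgen : ∀ i, ∃ (N : ℕ) (f : (Fin N → Γ(X, V i)) →ₗ[Γ(X, V i)] Γ(Ω, V i)), Function.Surjective f := fun i => by
    haveI := QC.finite_sections (hV i) hΩ.2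
    exact Module.Finite.exists_fin' _ _
  choose N f hf using hgen
  refine ⟨Finset.univ.sup N, fun p L hp hL => ?_⟩
  obtain ⟨φ, hφ⟩ := hL
  haveI : L.IsQuasicoherent := QC.isQCoh_iff_isLoc.2 (isLoc φ hφ hΩ.1)
  rw [IsZero.iff_id_eq_zero]
  refine Scheme.Modules.hom_ext _ _ fun W => ?_
  ext s
  refine QC.section_eq_of_locally fun x hx => ?_
  obtain ⟨i, hi⟩ : ∃ i, x ∈ V i := by
    exact hcov _ trivial
  obtain ⟨g, hg, hxg⟩ := (hV i).exists_basicOpen_le (V := W) ⟨x, hx⟩ hi
  have hs : Subsingleton Γ(L, V i) := by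
    haveI := subsingleton_extPow (f i) (hf i) (lt_of_le_of_lt (Finset.le_sup (Finset.mem_univ i)) hp)
    exact (φ ⟨V i, hV i⟩).toEquiv.subsingleton
  refine ⟨X.basicOpen g, hg, hxg, ?_⟩
  have key : ∀ t : Γ(L, X.basicOpen g), t = 0 := fun t => by
    obtain ⟨m, a, ha⟩ := (QC.isLoc_of_isQCoh (hV i) (M := L)).exists_extend g t
    rw [hs.elim a 0, map_zero] at ha
    have hu : IsUnit ((resO X (X.basicOpen_le g) g) ^ m) :=
      (RingedSpace.isUnit_res_basicOpen X.toRingedSpace g).pow m
    exact (hu.smul_eq_zero).1 ha.symm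
  rw [key (res L hg _), key (res L hg _)]

/-- The differentials of a morphism of finite type into an affine scheme are coherent. -/
theorem isCoh_omega {S : Scheme.{u}} (f : X ⟶ S) [QuasiSeparated f] [LocallyOfFiniteType f] :
    Coh.IsCoh (Omega.sheaf f) :=
  ⟨OmegaLib.isQCoh_of_isUniversal (OmegaLib.isUniversal_dOmega f),
    OmegaLib.isFT_of_locallyOfFiniteType (OmegaLib.isUniversal_dOmega f)⟩

end Groth.Agent.PnHodge.ExtCoh
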