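import Groth.Agent.PnHodge.Coh
import Groth.Agent.HdRVanish.Main

/-!
# de Rham cohomology of projective space outside the even degrees
-/

set_option autoImplicit false
set_option backward.isDefEq.respectTransparency false
set_option backward.isDefEq.respectTransparency.types false
set_option linter.style.haveILetI false
set_option maxHeartbeats 1000000

universe w w' v u

open CategoryTheory CategoryTheory.Limits Pretriangulated AlgebraicGeometry TopologicalSpace Opposite

noncomputable section

namespace Groth.Agent.PnHodge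

section Cat

variable {C : Type u} [Category.{v} C] [Abelian C] [HasExt.{w} C] [HasDerivedCategory.{w'} C]

/-- Maps into the degree `i` shift of a bounded complex vanish when all terms of total degree `i` do. -/
theorem subsingleton_homTo_exact (X : C) (K : CochainComplex C ℤ) (n : ℕ)
    (hneg : ∀ p, p < 0 → IsZero (K.X p)) (hbig : ∀ p : ℤ, (n : ℤ) < p → IsZero (K.X p)) (i : ℤ)
    (h : ∀ (p : ℤ) (q : ℕ), 0 ≤ p → p ≤ n → p + q = i → Subsingleton (Abelian.Ext X (K.X p) q)) :
    Subsingleton (HdRVanish.HomTo X K i) := by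
  refine ProjForm.Stupid.prop_of_bounded K (fun P => Subsingleton (HdRVanish.HomTo X P i))
    (fun {P P'} e hP => ?_) (fun P hP => ?_) (fun {S} hS h₁ h₃ => ?_) hneg hbig fun p => ?_
  · let E : (shiftFunctor (DerivedCategory C) i).obj (DerivedCategory.Q.obj P) ≅
        (shiftFunctor (DerivedCategory C) i).obj (DerivedCategory.Q.obj P') :=
      (DerivedCategory.Q ⋙ shiftFunctor (DerivedCategory C) i).mapIso e
    exact E.homToEquiv.subsingleton_congr.1 hP
  · have : IsZero ((shiftFunctor (DerivedCategory C) i).obj (DerivedCategory.Q.obj P)) :=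
      (DerivedCategory.Q ⋙ shiftFunctor (DerivedCategory C) i).map_isZero hP
    exact ⟨fun a b => this.eq_of_tgt a b⟩
  · have hS' : S.ShortExact := HomologicalComplex.shortExact_of_degreewise_shortExact S
      fun k => (hS k).shortExact
    have hT := Triangle.shift_distinguished _ (DerivedCategory.triangleOfSES_distinguished hS') i
    refine ⟨fun a b => sub_eq_zero.1 ?_⟩
    obtain ⟨c, hc⟩ := Triangle.coyoneda_exact₂ _ hT (a - b) (h₃.elim _ _)
    rw [hc, h₁.elim c 0]
    exact zero_comp
  · by_cases hp : p < 0 ∨ (n : ℤ) < p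
    · have hz : IsZero ((HomologicalComplex.single C (ComplexShape.up ℤ) p).obj (K.X p)) :=
        Functor.map_isZero _ (hp.elim (hneg p) (hbig p))
      have : IsZero ((shiftFunctor (DerivedCategory C) i).obj (DerivedCategory.Q.obj
          ((HomologicalComplex.single C (ComplexShape.up ℤ) p).obj (K.X p)))) :=
        (DerivedCategory.Q ⋙ shiftFunctor (DerivedCategory C) i).map_isZero hz
      exact ⟨fun a b => this.eq_of_tgt a b⟩
    push Not at hp
    let Y := K.X p
    let e : (shiftFunctor (DerivedCategory C) i).obj (DerivedCategory.Q.obj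
          ((HomologicalComplex.single C (ComplexShape.up ℤ) p).obj Y)) ≅
        (shiftFunctor (DerivedCategory C) (i - p)).obj ((DerivedCategory.singleFunctor C 0).obj Y) :=
      (shiftFunctorAdd' (DerivedCategory C) p (i - p) i (by omega)).app _ ≪≫
        (shiftFunctor (DerivedCategory C) (i - p)).mapIso
          (((DerivedCategory.singleFunctors C).shiftIso p 0 p (add_zero p)).app Y)
    refine e.homToEquiv.subsingleton_congr.2 ?_
    rcases lt_or_ge i p with hi | hi
    · haveI := DerivedCategory.TStructure.t.isGE_shift ((DerivedCategory.singleFunctor C 0).obj Y) 0 (i - p)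
        (p - i) (by omega)
      exact ⟨fun a b => sub_eq_zero.1 (DerivedCategory.TStructure.t.zero (a - b) 0 (p - i) (by omega))⟩
    · obtain ⟨q, hq⟩ : ∃ q : ℕ, i - p = q := ⟨(i - p).toNat, by omega⟩
      rw [hq]
      haveI := h p q hp.1 hp.2 (by omega)
      exact Abelian.Ext.homEquiv.symm.subsingleton

end Cat

/-- De Rham cohomology of `P^n` vanishes outside the degrees `0, 2, …, 2n`. -/
theorem subsingleton_hdR {n : ℕ} {A : Type u} [CommRing A] [QuasiSeparated (CohB1.ProjSpace.toSpec n A)]
    (D : DeRhamSh.OmegaCx (CohB1.ProjSpace.toSpec n A))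
    [HasDerivedCategory.{u} (Sheaf (Opens.grothendieckTopology ↥(CohB1.ProjSpace n A)) AddCommGrpCat.{u})]
    (m : ℤ) (hm : ∀ i : ℕ, i ≤ n → m ≠ 2 * (i : ℤ)) : Subsingleton (DeRhamSh.HdR D m) := by
  let X := CohB1.ProjSpace n A
  let e := ComplexShape.embeddingUpNat
  have hneg : ∀ p : ℤ, p < 0 → IsZero (D.KZ.X p) := fun p hp =>
    D.K.isZero_extend_X e p fun j hj => by
      have : ((j : ℕ) : ℤ) = p := hj
      omega
  have hX : ∀ j : ℕ, Nonempty (D.KZ.X (j : ℤ) ≅ Coh.toAb (D.term j)) := fun j =>
    ⟨D.K.extendXIso e (rfl : e.f j = (j : ℤ)) ≪≫ D.iso j⟩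
  have hbig : ∀ p : ℤ, (n : ℤ) < p → IsZero (D.KZ.X p) := fun p hp => by
    obtain ⟨j, rfl⟩ := Int.eq_ofNat_of_zero_le (show 0 ≤ p by omega)
    haveI : (SheafOfModules.toSheaf.{u} X.ringCatSheaf).Additive := inferInstance
    exact ((SheafOfModules.toSheaf.{u} X.ringCatSheaf).map_isZero
      (isZero_extPow_omega (n := n) (A := A) (p := j) (by omega) (D.isExtPow j))).of_iso (hX j).some
  refine subsingleton_homTo_exact (CohCx.freeSheaf (Opens.grothendieckTopology X) (⊤ : X.Opens)) D.KZ n hneg hbig
    m fun p q hp hpn hpq => ?_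
  obtain ⟨j, rfl⟩ := Int.eq_ofNat_of_zero_le hp
  refine HdRVanish.subsingleton_ext_congr (X := X.toTopCat) _ (hX j).some q ?_
  refine (FreeJ.subsingleton_H_iff (X := X.toTopCat) (Coh.toAb (D.term j)) q).1 ?_
  have hj : IsOm n A j (D.term j) := D.isExtPow j
  obtain ⟨ε⟩ := nonempty_hh_om hj q
  exact ε.toEquiv.subsingleton_congr.1 (vanish j 0 q (fun ⟨_, h1, h2⟩ => hm j h2 (by omega)) (by omega)
    (by omega) _ hj)

end Groth.Agent.PnHodge
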