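import Groth.Agent.PnHodge.DeRham
import Groth.Prelude.Def_KLinDR

/-!
# Linear structure on maps into shifts of bounded complexes
-/

set_option autoImplicit false
set_option backward.isDefEq.respectTransparency false
set_option backward.isDefEq.respectTransparency.types false
set_option linter.style.haveILetI false
set_option linter.unusedSectionVars false
set_option maxHeartbeats 1000000

universe w' v u u'

open CategoryTheory CategoryTheory.Limits Pretriangulated HomologicalComplex
open Groth.Agent.ProjForm.Stupid (σ ι step Xσ inc pr inc_pr pr_inc inc_of_lt isZero_Xσ inc_d step_inc isZero_σ step_f)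

noncomputable section

namespace Groth.Agent.PnHodge.HTLin

variable {A : Type u} [Category.{v} A] [Abelian A] (C : CochainComplex A ℤ)

theorem inc_f_inc (f : C ⟶ C) (m i : ℤ) :
    inc C m i ≫ f.f i ≫ pr C m i ≫ inc C m i = inc C m i ≫ f.f i := by
  by_cases h : m ≤ i
  · rw [pr_inc C h, Category.comp_id]
  · simp [inc_of_lt C (show i < m by omega)]

theorem comp_units {D : Type*} [Category D] [Preadditive D] {X Y Z : D} (f : X ⟶ Y) (g : Y ⟶ Z) (u : ℤˣ) :
    f ≫ (u • g) = u • (f ≫ g) := Preadditive.comp_zsmul _ _ _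

theorem units_comp {D : Type*} [Category D] [Preadditive D] {X Y Z : D} (f : X ⟶ Y) (g : Y ⟶ Z) (u : ℤˣ) :
    (u • f) ≫ g = u • (f ≫ g) := Preadditive.zsmul_comp _ _ _

/-- Endomorphisms restrict to the truncations. -/
def σEnd (m : ℤ) : End C →+* End (σ C m) where
  toFun f :=
    { f := fun i => inc C m i ≫ (show C ⟶ C from f).f i ≫ pr C m i
      comm' := fun i j _ => by
        change (inc C m i ≫ (show C ⟶ C from f).f i ≫ pr C m i) ≫ inc C m i ≫ C.d i j ≫ pr C m j =
          (inc C m i ≫ C.d i j ≫ pr C m j) ≫ inc C m j ≫ (show C ⟶ C from f).f j ≫ pr C m j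
        simp only [Category.assoc]
        rw [reassoc_of% (inc_f_inc C f m i), reassoc_of% (inc_d C m i j),
          reassoc_of% ((show C ⟶ C from f).comm i j)] }
  map_one' := by
    refine HomologicalComplex.hom_ext _ _ fun i => ?_
    change inc C m i ≫ (𝟙 C : C ⟶ C).f i ≫ pr C m i = 𝟙 _
    rw [id_f, Category.id_comp, inc_pr]
  map_mul' f g := by
    refine HomologicalComplex.hom_ext _ _ fun i => ?_
    change inc C m i ≫ ((show C ⟶ C from g) ≫ (show C ⟶ C from f)).f i ≫ pr C m i =
      (inc C m i ≫ (show C ⟶ C from g).f i ≫ pr C m i) ≫ inc C m i ≫ (show C ⟶ C from f).f i ≫ pr C m i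
    simp only [comp_f, Category.assoc]
    rw [reassoc_of% (inc_f_inc C g m i)]
  map_zero' := by
    refine HomologicalComplex.hom_ext _ _ fun i => ?_
    change inc C m i ≫ (0 : C ⟶ C).f i ≫ pr C m i = 0
    rw [zero_f, zero_comp, comp_zero]
  map_add' f g := by
    refine HomologicalComplex.hom_ext _ _ fun i => ?_
    change inc C m i ≫ ((show C ⟶ C from f) + (show C ⟶ C from g)).f i ≫ pr C m i =
      inc C m i ≫ (show C ⟶ C from f).f i ≫ pr C m i + inc C m i ≫ (show C ⟶ C from g).f i ≫ pr C m i
    rw [add_f_apply, Preadditive.add_comp, Preadditive.comp_add]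

/-- Endomorphisms of the single complexes of the terms. -/
def singleEnd (m : ℤ) : End C →+* End ((single A (ComplexShape.up ℤ) m).obj (C.X m)) where
  toFun f := (single A (ComplexShape.up ℤ) m).map ((show C ⟶ C from f).f m)
  map_one' := (single A (ComplexShape.up ℤ) m).map_id _
  map_mul' f g := by
    change (single A (ComplexShape.up ℤ) m).map (((show C ⟶ C from g) ≫ (show C ⟶ C from f)).f m) = _
    rw [comp_f, Functor.map_comp]
    rfl
  map_zero' := by
    change (single A (ComplexShape.up ℤ) m).map ((0 : C ⟶ C).f m) = 0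
    rw [zero_f, Functor.map_zero]
  map_add' f g := by
    change (single A (ComplexShape.up ℤ) m).map (((show C ⟶ C from f) + (show C ⟶ C from g)).f m) = _
    rw [add_f_apply, Functor.map_add]

/-- The projection of a truncation on its lowest term. -/
def proj (m : ℤ) : σ C m ⟶ (single A (ComplexShape.up ℤ) m).obj (C.X m) :=
  mkHomToSingle (inc C m m) (fun i hi => by
    exact (isZero_Xσ C (show i < m by change i + 1 = m at hi; omega)).eq_of_src _ _)

theorem step_proj (m : ℤ) : step C (m + 1) m (by omega) ≫ proj C m = 0 := by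
  refine HomologicalComplex.to_single_hom_ext ?_
  exact (isZero_Xσ C (show m < m + 1 by omega)).eq_of_src _ _

theorem shortExact_step (m : ℤ) :
    (ShortComplex.mk (step C (m + 1) m (by omega)) (proj C m) (step_proj C m)).ShortExact := by
  refine HomologicalComplex.shortExact_of_degreewise_shortExact _ fun n => ShortComplex.Splitting.shortExact ?_
  by_cases hn : n = m
  · subst hn
    exact
      { r := 0
        s := (singleObjXSelf (ComplexShape.up ℤ) n (C.X n)).hom ≫ pr C n n
        f_r := (isZero_Xσ C (show n < n + 1 by omega)).eq_of_src _ _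
        s_g := by
          change ((singleObjXSelf _ n (C.X n)).hom ≫ pr C n n) ≫ (proj C n).f n = 𝟙 _
          rw [proj, mkHomToSingle_f, Category.assoc, reassoc_of% (pr_inc C (le_refl n)), Iso.hom_inv_id]
        id := by
          have h : (proj C n).f n ≫ (singleObjXSelf (ComplexShape.up ℤ) n (C.X n)).hom ≫ pr C n n =
              𝟙 (Xσ C n n) := by
            rw [proj, mkHomToSingle_f, Category.assoc, Iso.inv_hom_id_assoc]
            exact inc_pr C n n
          rw [zero_comp, zero_add]
          exact h }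
  · have hz : IsZero (((single A (ComplexShape.up ℤ) m).obj (C.X m)).X n) := isZero_single_obj_X _ _ _ _ hn
    exact
      { r := inc C m n ≫ pr C (m + 1) n
        s := 0
        f_r := by
          change (inc C (m + 1) n ≫ pr C m n) ≫ inc C m n ≫ pr C (m + 1) n = 𝟙 _
          rw [Category.assoc, reassoc_of% (step_inc C (m + 1) m (by omega) n), inc_pr]
        s_g := hz.eq_of_src _ _
        id := by
          have h : (inc C m n ≫ pr C (m + 1) n) ≫ (inc C (m + 1) n ≫ pr C m n) = 𝟙 (Xσ C m n) := by
            rw [Category.assoc]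
            by_cases h : m ≤ n
            · rw [reassoc_of% (pr_inc C (show m + 1 ≤ n by omega)), inc_pr]
            · exact (isZero_Xσ C (show n < m by omega)).eq_of_src _ _
          rw [comp_zero, add_zero]
          exact h }

variable {R : Type u'} [Ring R] (ρ : R →+* End C)

theorem commutes_ι (m : ℤ) : KLinDR.Commutes ((σEnd C m).comp ρ) ρ (ι C m) := fun a => by
  ext i
  change (inc C m i ≫ (show C ⟶ C from ρ a).f i ≫ pr C m i) ≫ inc C m i = inc C m i ≫ (show C ⟶ C from ρ a).f i
  simp only [Category.assoc]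
  exact inc_f_inc C _ m i

theorem commutes_step (m : ℤ) :
    KLinDR.Commutes ((σEnd C (m + 1)).comp ρ) ((σEnd C m).comp ρ) (step C (m + 1) m (by omega)) := fun a => by
  ext i
  change (inc C (m + 1) i ≫ (show C ⟶ C from ρ a).f i ≫ pr C (m + 1) i) ≫ inc C (m + 1) i ≫ pr C m i =
    (inc C (m + 1) i ≫ pr C m i) ≫ inc C m i ≫ (show C ⟶ C from ρ a).f i ≫ pr C m i
  simp only [Category.assoc]
  rw [reassoc_of% (inc_f_inc C _ (m + 1) i), reassoc_of% (step_inc C (m + 1) m (by omega) i)]

theorem commutes_proj (m : ℤ) :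
    KLinDR.Commutes ((σEnd C m).comp ρ) ((singleEnd C m).comp ρ) (proj C m) := fun a => by
  refine HomologicalComplex.to_single_hom_ext ?_
  change (inc C m m ≫ (show C ⟶ C from ρ a).f m ≫ pr C m m) ≫ (proj C m).f m =
    (proj C m).f m ≫ ((single A (ComplexShape.up ℤ) m).map ((show C ⟶ C from ρ a).f m)).f m
  simp only [proj, mkHomToSingle_f, single_map_f_self, Category.assoc, Iso.inv_hom_id_assoc]
  rw [reassoc_of% (inc_f_inc C _ m m)]

variable [HasDerivedCategory.{w'} A]

open KLinDR in
/-- Exactness of the sequence of a step. -/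
theorem exact_step (T : A) (m i : ℤ) :
    LinearMap.range (HTρmap T (step C (m + 1) m (by omega)) (commutes_step C ρ m) i) =
      LinearMap.ker (HTρmap T (proj C m) (commutes_proj C ρ m) i) := by
  have hT := Triangle.shift_distinguished _ (DerivedCategory.triangleOfSES_distinguished (shortExact_step C m)) i
  ext x
  constructor
  · rintro ⟨y, rfl⟩
    change ((HTρ.toHT y) ≫ (shiftFunctor (DerivedCategory A) i).map (DerivedCategory.Q.map _)) ≫
      (shiftFunctor (DerivedCategory A) i).map (DerivedCategory.Q.map (proj C m)) = 0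
    rw [Category.assoc, ← Functor.map_comp, ← Functor.map_comp, step_proj, Functor.map_zero, Functor.map_zero,
      comp_zero]
  · intro hx
    have hx' : HTρ.toHT x ≫ (shiftFunctor (DerivedCategory A) i).map (DerivedCategory.Q.map (proj C m)) = 0 := hx
    obtain ⟨c, hc⟩ := Triangle.coyoneda_exact₂ _ hT (i.negOnePow • HTρ.toHT x) (by
      change (i.negOnePow • HTρ.toHT x) ≫ (i.negOnePow •
        (shiftFunctor (DerivedCategory A) i).map (DerivedCategory.Q.map (proj C m))) = 0
      rw [units_comp, comp_units, hx', smul_zero, smul_zero])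
    refine ⟨HTρ.toHT.symm c, ?_⟩
    change c ≫ (shiftFunctor (DerivedCategory A) i).map (DerivedCategory.Q.map _) = HTρ.toHT x
    have hc' : i.negOnePow • HTρ.toHT x = c ≫ (i.negOnePow •
        (shiftFunctor (DerivedCategory A) i).map (DerivedCategory.Q.map (step C (m + 1) m (by omega)))) := hc
    rw [comp_units] at hc'
    exact (smul_left_cancel _ hc').symm

open KLinDR in
theorem injective_proj (T : A) (m i : ℤ) (h : Subsingleton (HdRVanish.HomTo T (σ C (m + 1)) i)) :
    Function.Injective (HTρmap T (proj C m) (commutes_proj C ρ m) i) := by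
  refine LinearMap.ker_eq_bot.1 ?_
  rw [← exact_step, LinearMap.range_eq_bot]
  refine LinearMap.ext fun x => ?_
  rw [show x = 0 from h.elim _ _, map_zero]
  rfl

open KLinDR in
theorem surjective_proj (T : A) (m i : ℤ) (h : Subsingleton (HdRVanish.HomTo T (σ C (m + 1)) (i + 1))) :
    Function.Surjective (HTρmap T (proj C m) (commutes_proj C ρ m) i) := by
  have hT := Triangle.shift_distinguished _ (DerivedCategory.triangleOfSES_distinguished (shortExact_step C m)) i
  intro x
  let e := (shiftFunctorAdd' (DerivedCategory A) (1 : ℤ) i (i + 1) (by omega)).app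
    (DerivedCategory.Q.obj (σ C (m + 1)))
  have h' : Subsingleton ((DerivedCategory.singleFunctor A 0).obj T ⟶
      (shiftFunctor (DerivedCategory A) i).obj ((shiftFunctor (DerivedCategory A) (1 : ℤ)).obj
        (DerivedCategory.Q.obj (σ C (m + 1))))) := e.homToEquiv.subsingleton_congr.1 h
  obtain ⟨c, hc⟩ := Triangle.coyoneda_exact₃ _ hT (HTρ.toHT x) (by
    haveI : Subsingleton ((DerivedCategory.singleFunctor A 0).obj T ⟶
        (shiftFunctor (DerivedCategory A) (1 : ℤ)).obj ((shiftFunctor (DerivedCategory A) i).obj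
          (DerivedCategory.Q.obj (σ C (m + 1))))) :=
      (shiftComm (DerivedCategory.Q.obj (σ C (m + 1))) i 1).homToEquiv.subsingleton_congr.2 h'
    exact (this : Subsingleton _).elim _ _)
  refine ⟨HTρ.toHT.symm (i.negOnePow • c), ?_⟩
  change (i.negOnePow • c) ≫ (shiftFunctor (DerivedCategory A) i).map (DerivedCategory.Q.map (proj C m)) = _
  have hc' : HTρ.toHT x = c ≫ (i.negOnePow •
      (shiftFunctor (DerivedCategory A) i).map (DerivedCategory.Q.map (proj C m))) := hc
  rw [comp_units] at hc'
  rw [units_comp]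
  exact hc'.symm

open KLinDR in
theorem surjective_step (T : A) (m i : ℤ)
    (h : Subsingleton (HdRVanish.HomTo T ((single A (ComplexShape.up ℤ) m).obj (C.X m)) i)) :
    Function.Surjective (HTρmap T (step C (m + 1) m (by omega)) (commutes_step C ρ m) i) := fun x => by
  have : x ∈ LinearMap.range (HTρmap T (step C (m + 1) m (by omega)) (commutes_step C ρ m) i) := by
    rw [exact_step]
    exact h.elim _ _
  exact this

open KLinDR in
/-- A truncation below all nonzero terms is the whole complex. -/
def ιEquiv (T : A) (m : ℤ) (hm : ∀ i, i < m → IsZero (C.X i)) (i : ℤ) :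
    HTρ T (σ C m) ((σEnd C m).comp ρ) i ≃ₗ[R] HTρ T C ρ i :=
  haveI : ∀ i, IsIso ((ι C m).f i) := fun i => ⟨pr C m i, inc_pr C m i, by
    by_cases hi : m ≤ i
    · exact pr_inc C hi
    · exact (hm i (by omega)).eq_of_src _ _⟩
  haveI : IsIso (ι C m) := HomologicalComplex.Hom.isIso_of_components _
  LinearEquiv.ofBijective (HTρmap T (ι C m) (commutes_ι C ρ m) i) (by
    let e := (DerivedCategory.Q ⋙ shiftFunctor (DerivedCategory A) i).mapIso (asIso (ι C m))
    exact e.homToEquiv.bijective)

open KLinDR in
theorem finite_σ (T : A) [IsNoetherianRing R] {b : ℤ} (hb : ∀ p, b < p → IsZero (C.X p)) (i : ℤ)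
    (h : ∀ p, Module.Finite R (HTρ T ((single A (ComplexShape.up ℤ) p).obj (C.X p)) ((singleEnd C p).comp ρ) i))
    (k : ℕ) : ∀ m : ℤ, b + 1 ≤ m + k → Module.Finite R (HTρ T (σ C m) ((σEnd C m).comp ρ) i) := by
  induction k with
  | zero =>
    intro m hm
    have hz : IsZero ((DerivedCategory.Q ⋙ shiftFunctor (DerivedCategory A) i).obj (σ C m)) :=
      Functor.map_isZero _ (isZero_σ C hb (by omega))
    haveI : Subsingleton (HTρ T (σ C m) ((σEnd C m).comp ρ) i) := ⟨fun a b => hz.eq_of_tgt a b⟩
    infer_instance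
  | succ k ih =>
    intro m hm
    haveI := ih (m + 1) (by omega)
    haveI := h m
    let f := HTρmap T (step C (m + 1) m (by omega)) (commutes_step C ρ m) i
    let g := HTρmap T (proj C m) (commutes_proj C ρ m) i
    haveI : Module.Finite R (LinearMap.ker g) := by
      rw [← exact_step]
      exact Module.Finite.range _
    haveI : IsNoetherian R (HTρ T ((single A (ComplexShape.up ℤ) m).obj (C.X m)) ((singleEnd C m).comp ρ) i) :=
      isNoetherian_of_isNoetherianRing_of_finite R _
    haveI : Module.Finite R (LinearMap.range g) := Module.IsNoetherian.finite R _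
    haveI : Module.Finite R (HTρ T (σ C m) ((σEnd C m).comp ρ) i ⧸ LinearMap.ker g) :=
      Module.Finite.equiv g.quotKerEquivRange.symm
    exact Module.Finite.of_submodule_quotient (LinearMap.ker g)

open KLinDR in
theorem finite_of_terms (T : A) [IsNoetherianRing R] {a b : ℤ} (ha : ∀ p, p < a → IsZero (C.X p))
    (hb : ∀ p, b < p → IsZero (C.X p)) (i : ℤ)
    (h : ∀ p, Module.Finite R (HTρ T ((single A (ComplexShape.up ℤ) p).obj (C.X p)) ((singleEnd C p).comp ρ) i)) :
    Module.Finite R (HTρ T C ρ i) := by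
  haveI := finite_σ C ρ T hb i h (b + 1 - a).toNat a (by omega)
  exact Module.Finite.equiv (ιEquiv C ρ T a ha i)

open KLinDR in
/-- If only one term contributes then the complex has its cohomology. -/
theorem nonempty_equiv_single (T : A) {b : ℤ} (hb : ∀ p, b < p → IsZero (C.X p))
    {a : ℤ} (ha : ∀ p, p < a → IsZero (C.X p)) (i p₀ : ℤ) (hp₀ : a ≤ p₀)
    (hhigh : ∀ p, p₀ < p → Subsingleton (HdRVanish.HomTo T ((single A (ComplexShape.up ℤ) p).obj (C.X p)) i) ∧
      Subsingleton (HdRVanish.HomTo T ((single A (ComplexShape.up ℤ) p).obj (C.X p)) (i + 1)))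
    (hlow : ∀ p, p < p₀ → Subsingleton (HdRVanish.HomTo T ((single A (ComplexShape.up ℤ) p).obj (C.X p)) i) ∧
      Subsingleton (HdRVanish.HomTo T ((single A (ComplexShape.up ℤ) p).obj (C.X p)) (i - 1))) :
    Nonempty (HTρ T C ρ i ≃ₗ[R] HTρ T ((single A (ComplexShape.up ℤ) p₀).obj (C.X p₀)) ((singleEnd C p₀).comp ρ) i) := by
  have hvan : ∀ (k : ℕ) (m : ℤ), p₀ < m → b + 1 ≤ m + k →
      Subsingleton (HdRVanish.HomTo T (σ C m) i) ∧ Subsingleton (HdRVanish.HomTo T (σ C m) (i + 1)) := by
    intro k
    induction k with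
    | zero =>
      intro m _ hm
      have hz : ∀ j : ℤ, IsZero ((DerivedCategory.Q ⋙ shiftFunctor (DerivedCategory A) j).obj (σ C m)) :=
        fun j => Functor.map_isZero _ (isZero_σ C hb (by omega))
      exact ⟨⟨fun a b => (hz i).eq_of_tgt a b⟩, ⟨fun a b => (hz (i + 1)).eq_of_tgt a b⟩⟩
    | succ k ih =>
      intro m hpm hm
      have key : ∀ j, Subsingleton (HdRVanish.HomTo T (σ C (m + 1)) j) →
          Subsingleton (HdRVanish.HomTo T ((single A (ComplexShape.up ℤ) m).obj (C.X m)) j) →
          Subsingleton (HdRVanish.HomTo T (σ C m) j) := fun j h1 h3 => by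
        have : Subsingleton (KLinDR.HTρ T (σ C (m + 1)) ((σEnd C (m + 1)).comp ρ) j) := h1
        exact (surjective_step C ρ T m j h3).subsingleton
      obtain ⟨h1, h2⟩ := ih (m + 1) (by omega) (by omega)
      exact ⟨key i h1 (hhigh m hpm).1, key (i + 1) h2 (hhigh m hpm).2⟩
  obtain ⟨h1, h2⟩ := hvan (b + 1 - p₀).toNat (p₀ + 1) (by omega) (by omega)
  let e₀ := LinearEquiv.ofBijective _ ⟨injective_proj C ρ T p₀ i h1, surjective_proj C ρ T p₀ i h2⟩
  have hdown : ∀ k : ℕ, Nonempty (HTρ T (σ C (p₀ - k)) ((σEnd C (p₀ - k)).comp ρ) i ≃ₗ[R]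
      HTρ T ((single A (ComplexShape.up ℤ) p₀).obj (C.X p₀)) ((singleEnd C p₀).comp ρ) i) := by
    intro k
    induction k with
    | zero =>
      rw [Nat.cast_zero, sub_zero]
      exact ⟨e₀⟩
    | succ k ih =>
      obtain ⟨e⟩ := ih
      obtain ⟨l1, l2⟩ := hlow (p₀ - (k + 1 : ℕ)) (by omega)
      rw [show p₀ - (k : ℤ) = p₀ - (k + 1 : ℕ) + 1 by omega] at e
      generalize p₀ - ((k + 1 : ℕ) : ℤ) = m at e l1 l2 ⊢
      let f := HTρmap T (step C (m + 1) m (by omega)) (commutes_step C ρ m) i
      have hinj : Function.Injective f := by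
        refine LinearMap.ker_eq_bot.1 (LinearMap.ker_eq_bot'.2 fun x hx => ?_)
        have hT := Triangle.shift_distinguished _
          (DerivedCategory.triangleOfSES_distinguished (shortExact_step C m)) i
        have hT' := inv_rot_of_distTriang _ hT
        obtain ⟨c, hc⟩ := Triangle.coyoneda_exact₂ _ hT' (KLinDR.HTρ.toHT x) (by
          change KLinDR.HTρ.toHT x ≫ (i.negOnePow • (shiftFunctor (DerivedCategory A) i).map
            (DerivedCategory.Q.map (step C (m + 1) m (by omega)))) = 0
          rw [comp_units, show KLinDR.HTρ.toHT x ≫ _ = 0 from hx, smul_zero])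
        haveI : Subsingleton ((DerivedCategory.singleFunctor A 0).obj T ⟶
            (shiftFunctor (DerivedCategory A) (-1 : ℤ)).obj ((shiftFunctor (DerivedCategory A) i).obj
              (DerivedCategory.Q.obj ((single A (ComplexShape.up ℤ) m).obj (C.X m))))) :=
          ((shiftFunctorAdd' (DerivedCategory A) i (-1) (i - 1) (by omega)).app _).homToEquiv.subsingleton_congr.1 l2
        change KLinDR.HTρ.toHT x = 0
        rw [hc, (this : Subsingleton _).elim c 0]
        exact zero_comp
      exact ⟨(LinearEquiv.ofBijective f ⟨hinj, surjective_step C ρ T m i l1⟩).symm ≪≫ₗ e⟩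
  obtain ⟨e⟩ := hdown (p₀ - a).toNat
  rw [show p₀ - ((p₀ - a).toNat : ℤ) = a by omega] at e
  exact ⟨(ιEquiv C ρ T a ha i).symm ≪≫ₗ e⟩

end Groth.Agent.PnHodge.HTLin
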