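import Groth.Agent.PnHodge.HTLin
import Groth.Agent.PnHodge.Coh

/-!
# A complex in one degree: linear identification with the cohomology of a module
-/

set_option autoImplicit false
set_option backward.isDefEq.respectTransparency false
set_option backward.isDefEq.respectTransparency.types false
set_option linter.style.haveILetI false
set_option linter.unusedSectionVars false
set_option maxHeartbeats 1000000

universe w' v u u'

open CategoryTheory CategoryTheory.Limits AlgebraicGeometry TopologicalSpace Opposite

noncomputable section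

namespace Groth.Agent.PnHodge.HTLin

section Cat

variable {C : Type u} [Category.{v} C] [Abelian C] [HasDerivedCategory.{w'} C]

/-- A term in degree `p`, shifted by `p + q`, is the term in degree `0` shifted by `q`. -/
def singleShiftIso (p : ℤ) (q : ℕ) (i : ℤ) (h : p + q = i) :
    DerivedCategory.singleFunctor C p ⋙ shiftFunctor (DerivedCategory C) i ≅
      DerivedCategory.singleFunctor C 0 ⋙ shiftFunctor (DerivedCategory C) (q : ℤ) :=
  Functor.isoWhiskerLeft (DerivedCategory.singleFunctor C p) (shiftFunctorAdd' (DerivedCategory C) p q i h) ≪≫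
    (Functor.associator _ _ _).symm ≪≫
    Functor.isoWhiskerRight ((DerivedCategory.singleFunctors C).shiftIso p 0 p (add_zero p))
      (shiftFunctor (DerivedCategory C) (q : ℤ))

theorem homEquiv_comp_mk₀ [HasExt.{v} C] {T Y Y' : C} {q : ℕ} (x : Abelian.Ext T Y q) (f : Y ⟶ Y') :
    Abelian.Ext.homEquiv (x.comp (Abelian.Ext.mk₀ f) (add_zero q)) =
      Abelian.Ext.homEquiv x ≫
        (shiftFunctor (DerivedCategory C) (q : ℤ)).map ((DerivedCategory.singleFunctor C 0).map f) := by
  change (x.comp (Abelian.Ext.mk₀ f) (add_zero q)).hom = _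
  rw [Abelian.Ext.comp_hom, Abelian.Ext.mk₀_hom, ShiftedHom.comp_mk₀]

end Cat

section Scheme

variable {X : Scheme.{u}} (A : Type u) [CommRing A] [X.Over (Spec (CommRingCat.of A))]
  [HasDerivedCategory.{u} (Sheaf (Opens.grothendieckTopology X) AddCommGrpCat.{u})]

/-- One term with scalars acting by multiplication. -/
theorem nonempty_single_equiv (p : ℤ) {Y : Sheaf (Opens.grothendieckTopology X) AddCommGrpCat.{u}}
    (M : X.Modules) (κ : Y ≅ Coh.toAb M)
    (ρ : A →+* End ((HomologicalComplex.single _ (ComplexShape.up ℤ) p).obj Y))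
    (hρ : ∀ a, ρ a = (HomologicalComplex.single _ (ComplexShape.up ℤ) p).map
      (κ.hom ≫ Coh.smulAb M (Coh.toGlobal (X ↘ Spec (CommRingCat.of A)) a) ≫ κ.inv))
    (i : ℤ) (q : ℕ) (h : p + q = i) :
    Nonempty (KLinDR.HTρ (CohCx.freeSheaf (Opens.grothendieckTopology X) (⊤ : X.Opens))
      ((HomologicalComplex.single _ (ComplexShape.up ℤ) p).obj Y) ρ i ≃ₗ[A] Coh.HH X M q) := by
  let J := Opens.grothendieckTopology X
  let T := CohCx.freeSheaf J (⊤ : X.Opens)
  let N := singleShiftIso (C := Sheaf J AddCommGrpCat.{u}) p q i h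
  let H := SiteCoh.huTerminalEquiv J (T := (⊤ : X.Opens)) isTerminalTop (Coh.toAb M) q
  let f : ∀ x : KLinDR.HTρ T ((HomologicalComplex.single _ (ComplexShape.up ℤ) p).obj Y) ρ i,
      Abelian.Ext T (Coh.toAb M) q := fun x =>
    (Abelian.Ext.homEquiv.symm (KLinDR.HTρ.toHT x ≫ N.hom.app Y)).comp (Abelian.Ext.mk₀ κ.hom) (add_zero q)
  have hf : ∀ x, Abelian.Ext.homEquiv (f x) = KLinDR.HTρ.toHT x ≫ N.hom.app Y ≫
      (shiftFunctor (DerivedCategory (Sheaf J AddCommGrpCat.{u})) (q : ℤ)).map
        ((DerivedCategory.singleFunctor _ 0).map κ.hom) := fun x => by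
    rw [homEquiv_comp_mk₀, Equiv.apply_symm_apply, Category.assoc]
  have hadd : ∀ x y, f (x + y) = f x + f y := fun x y => by
    refine Abelian.Ext.ext ?_
    change Abelian.Ext.homEquiv _ = Abelian.Ext.homEquiv _
    rw [hf, map_add, Preadditive.add_comp, ← hf, ← hf]
    exact (Abelian.Ext.add_hom _ _).symm
  have hbij : Function.Bijective f := by
    have h1 : Function.Bijective fun x : KLinDR.HTρ T ((HomologicalComplex.single _ (ComplexShape.up ℤ) p).obj Y) ρ i =>
        KLinDR.HTρ.toHT x ≫ N.hom.app Y ≫ (shiftFunctor (DerivedCategory (Sheaf J AddCommGrpCat.{u})) (q : ℤ)).map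
        ((DerivedCategory.singleFunctor _ 0).map κ.hom) :=
      (N.app Y ≪≫ ((DerivedCategory.singleFunctor _ 0) ⋙
        shiftFunctor (DerivedCategory (Sheaf J AddCommGrpCat.{u})) (q : ℤ)).mapIso κ).homToEquiv.bijective
    have h2 : f = Abelian.Ext.homEquiv.symm ∘ _ := funext fun x => (Equiv.apply_eq_iff_eq_symm_apply _).1 (hf x)
    rw [h2]
    exact Abelian.Ext.homEquiv.symm.bijective.comp h1
  let F : KLinDR.HTρ T ((HomologicalComplex.single _ (ComplexShape.up ℤ) p).obj Y) ρ i →ₗ[A] Coh.HH X M q :=
    { toFun := fun x => H.symm (f x)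
      map_add' := fun x y => by rw [hadd, map_add]
      map_smul' := fun a x => by
        rw [RingHom.id_apply]
        let s := Coh.smulAb M (Coh.toGlobal (X ↘ Spec (CommRingCat.of A)) a)
        have hsm : f (a • x) = (f x).comp (Abelian.Ext.mk₀ s) (add_zero q) := by
          refine Abelian.Ext.homEquiv.injective ?_
          refine (hf _).trans (Eq.trans ?_ (homEquiv_comp_mk₀ _ _).symm)
          rw [hf, KLinDR.smul_def, hρ]
          simp only [Category.assoc]
          have hnat := N.hom.naturality (κ.hom ≫ s ≫ κ.inv)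
          simp only [Functor.comp_map, Functor.comp_obj] at hnat
          refine congrArg (fun t => KLinDR.HTρ.toHT x ≫ t) ?_
          refine ((Category.assoc _ _ _).symm.trans (congrArg (· ≫ _) hnat)).trans ?_
          rw [Category.assoc, ← Functor.map_comp, ← Functor.map_comp, ← Functor.map_comp, ← Functor.map_comp]
          simp only [Category.assoc, Iso.inv_hom_id, Category.comp_id]
        change H.symm (f (a • x)) = Sheaf.H.map s q (H.symm (f x))
        rw [hsm]
        refine H.injective ?_
        rw [AddEquiv.apply_symm_apply]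
        have hH : ∀ {G G' : Sheaf J AddCommGrpCat.{u}} (g : G ⟶ G') (z : Sheaf.H.{u} G q),
            SiteCoh.huTerminalEquiv J (T := (⊤ : X.Opens)) isTerminalTop G' q (Sheaf.H.map g q z) =
              (SiteCoh.huTerminalEquiv J (T := (⊤ : X.Opens)) isTerminalTop G q z).comp
                (Abelian.Ext.mk₀ g) (add_zero q) := fun g z =>
          (Abelian.Ext.comp_assoc_of_third_deg_zero _ _ _ (zero_add q)).symm
        refine Eq.trans ?_ (hH s (H.symm (f x))).symm
        rw [show SiteCoh.huTerminalEquiv J (T := (⊤ : X.Opens)) isTerminalTop (Coh.toAb M) q (H.symm (f x)) = f x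
          from H.apply_symm_apply _] }
  exact ⟨LinearEquiv.ofBijective F (H.symm.bijective.comp hbij)⟩

end Scheme

end Groth.Agent.PnHodge.HTLin
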