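import Groth.Agent.PnHodge.HdRTerms
import Groth.Agent.PnHodge.ExtCoh
import Groth.Agent.CohFinite.Proper

/-!
# Finiteness of de Rham cohomology of a proper scheme
-/

set_option autoImplicit false
set_option backward.isDefEq.respectTransparency false
set_option backward.isDefEq.respectTransparency.types false
set_option linter.style.haveILetI false
set_option maxHeartbeats 1000000

universe u

open CategoryTheory CategoryTheory.Limits AlgebraicGeometry TopologicalSpace Opposite

noncomputable section

namespace Groth.Agent.PnHodge.HTLin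

theorem finite_hdR {A : Type u} [CommRing A] [IsNoetherianRing A] {X : Scheme.{u}}
    (f : X ⟶ Spec (CommRingCat.of A)) [IsProper f] (D : DeRhamSh.OmegaCx f)
    (h : KLinDR.TermwiseLinear (Coh.toGlobal f) D.K D.term D.iso)
    [HasDerivedCategory.{u} (Sheaf (Opens.grothendieckTopology X) AddCommGrpCat.{u})] (i : ℤ) :
    Module.Finite A (KLinDR.HdR (Coh.toGlobal f) D h i) := by
  letI : X.Over (Spec (CommRingCat.of A)) := ⟨f⟩
  haveI : IsProper (X ↘ Spec (CommRingCat.of A)) := ‹IsProper f›
  haveI : CompactSpace X := QuasiCompact.compactSpace_of_compactSpace f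
  have hΩ := ExtCoh.isCoh_omega f
  obtain ⟨N, hN⟩ := ExtCoh.exists_isZero_of_big hΩ
  have hbig : ∀ j : ℕ, N < j → IsZero (D.term j) := fun j hj => hN j _ hj (D.isExtPow j)
  refine finite_of_terms D.KZ (KLinDR.scalar h) (CohCx.freeSheaf (Opens.grothendieckTopology X) (⊤ : X.Opens))
    (isZero_KZ_neg D) (isZero_KZ_big D hbig) i fun p => ?_
  have hsub : Subsingleton (HdRVanish.HomTo (CohCx.freeSheaf (Opens.grothendieckTopology X) (⊤ : X.Opens))
      ((HomologicalComplex.single _ (ComplexShape.up ℤ) p).obj (D.KZ.X p)) i) →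
      Module.Finite A (KLinDR.HTρ (CohCx.freeSheaf (Opens.grothendieckTopology X) (⊤ : X.Opens))
        ((HomologicalComplex.single _ (ComplexShape.up ℤ) p).obj (D.KZ.X p))
        ((singleEnd D.KZ p).comp (KLinDR.scalar h)) i) := fun hs => by
    haveI : Subsingleton (KLinDR.HTρ (CohCx.freeSheaf (Opens.grothendieckTopology X) (⊤ : X.Opens))
        ((HomologicalComplex.single _ (ComplexShape.up ℤ) p).obj (D.KZ.X p))
        ((singleEnd D.KZ p).comp (KLinDR.scalar h)) i) := hs
    infer_instance
  by_cases hp : 0 ≤ p ∧ p ≤ i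
  · obtain ⟨j, rfl⟩ := Int.eq_ofNat_of_zero_le hp.1
    obtain ⟨e⟩ := nonempty_single_equiv A (j : ℤ) (D.term j) (termIso D j)
      ((singleEnd D.KZ (j : ℤ)).comp (KLinDR.scalar h))
      (fun a => RingHom.congr_fun (singleEnd_scalar A D h j) a) i (i - (j : ℤ)).toNat (by omega)
    haveI := CohFinite.finite_proper (A := A) X (D.term j) (ExtCoh.isCoh_of_isExtPow hΩ (D.isExtPow j))
      (i - (j : ℤ)).toNat
    exact Module.Finite.equiv e.symm
  · exact hsub (subsingleton_term A D hbig p i fun j q hj hq hjn => absurd ⟨by omega, by omega⟩ hp)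

end Groth.Agent.PnHodge.HTLin
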