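import Groth.Agent.PnHodge.HTTerm

/-!
# The single terms of a de Rham complex
-/

set_option autoImplicit false
set_option backward.isDefEq.respectTransparency false
set_option backward.isDefEq.respectTransparency.types false
set_option linter.style.haveILetI false
set_option linter.unusedSectionVars false
set_option maxHeartbeats 1000000

universe w' v u u'

open CategoryTheory CategoryTheory.Limits AlgebraicGeometry TopologicalSpace Opposite

noncomputable section

namespace Groth.Agent.PnHodge.HTLin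

variable {X : Scheme.{u}} (A : Type u) [CommRing A] [X.Over (Spec (CommRingCat.of A))]

/-- The scalars on a single term. -/
def scalSingle (p : ℤ) {Y : Sheaf (Opens.grothendieckTopology X) AddCommGrpCat.{u}}
    (M : X.Modules) (κ : Y ≅ Coh.toAb M) :
    A →+* End ((HomologicalComplex.single _ (ComplexShape.up ℤ) p).obj Y) where
  toFun a := (HomologicalComplex.single _ (ComplexShape.up ℤ) p).map
    (κ.hom ≫ Coh.smulAb M (Coh.toGlobal (X ↘ Spec (CommRingCat.of A)) a) ≫ κ.inv)
  map_one' := by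
    rw [map_one, Coh.smulAb_one, Category.id_comp, Iso.hom_inv_id]
    exact CategoryTheory.Functor.map_id _ _
  map_mul' a b := by
    change _ = (HomologicalComplex.single _ (ComplexShape.up ℤ) p).map _ ≫
      (HomologicalComplex.single _ (ComplexShape.up ℤ) p).map _
    rw [← Functor.map_comp, map_mul, Coh.smulAb_mul]
    simp only [Category.assoc, Iso.inv_hom_id_assoc]
  map_zero' := by rw [map_zero, Coh.smulAb_zero, zero_comp, comp_zero, Functor.map_zero]
  map_add' a b := by
    rw [map_add, Coh.smulAb_add, Preadditive.add_comp, Preadditive.comp_add, Functor.map_add]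

variable [HasDerivedCategory.{u} (Sheaf (Opens.grothendieckTopology X) AddCommGrpCat.{u})]

include A in
theorem nonempty_single_addEquiv (p : ℤ) {Y : Sheaf (Opens.grothendieckTopology X) AddCommGrpCat.{u}}
    (M : X.Modules) (κ : Y ≅ Coh.toAb M) (i : ℤ) (q : ℕ) (h : p + q = i) :
    Nonempty (HdRVanish.HomTo (CohCx.freeSheaf (Opens.grothendieckTopology X) (⊤ : X.Opens))
      ((HomologicalComplex.single _ (ComplexShape.up ℤ) p).obj Y) i ≃+ Coh.HH X M q) := by
  obtain ⟨e⟩ := nonempty_single_equiv A p M κ (scalSingle A p M κ) (fun a => rfl) i q h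
  exact ⟨(KLinDR.HTρ.toHT (ρ := scalSingle A p M κ)).symm.trans e.toAddEquiv⟩

omit [X.Over (Spec (CommRingCat.of A))] in
theorem subsingleton_single_of_lt {p i : ℤ} (hi : i < p)
    (Y : Sheaf (Opens.grothendieckTopology X) AddCommGrpCat.{u})
    (T : Sheaf (Opens.grothendieckTopology X) AddCommGrpCat.{u}) :
    Subsingleton (HdRVanish.HomTo T ((HomologicalComplex.single _ (ComplexShape.up ℤ) p).obj Y) i) := by
  let C := DerivedCategory (Sheaf (Opens.grothendieckTopology X) AddCommGrpCat.{u})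
  let e : (shiftFunctor C i).obj ((DerivedCategory.singleFunctor _ p).obj Y) ≅
      (shiftFunctor C (i - p)).obj ((DerivedCategory.singleFunctor _ 0).obj Y) :=
    (shiftFunctorAdd' C p (i - p) i (by omega)).app _ ≪≫
      (shiftFunctor C (i - p)).mapIso (((DerivedCategory.singleFunctors _).shiftIso p 0 p (add_zero p)).app Y)
  refine e.homToEquiv.subsingleton_congr.2 ?_
  haveI := DerivedCategory.TStructure.t.isGE_shift ((DerivedCategory.singleFunctor _ 0).obj Y) 0 (i - p) (p - i) (by omega)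
  exact ⟨fun a b => sub_eq_zero.1 (DerivedCategory.TStructure.t.zero (a - b) 0 (p - i) (by omega))⟩

include A in
theorem subsingleton_single (p i : ℤ) {Y : Sheaf (Opens.grothendieckTopology X) AddCommGrpCat.{u}}
    (M : X.Modules) (κ : Y ≅ Coh.toAb M) (h : ∀ q : ℕ, p + q = i → Subsingleton (Coh.HH X M q)) :
    Subsingleton (HdRVanish.HomTo (CohCx.freeSheaf (Opens.grothendieckTopology X) (⊤ : X.Opens))
      ((HomologicalComplex.single _ (ComplexShape.up ℤ) p).obj Y) i) := by
  rcases lt_or_ge i p with hi | hi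
  · exact subsingleton_single_of_lt hi Y _
  · obtain ⟨e⟩ := nonempty_single_addEquiv A p M κ i (i - p).toNat (by omega)
    exact e.toEquiv.subsingleton_congr.2 (h _ (by omega))

section Terms

variable {S : Scheme.{u}} {f : X ⟶ S} {Ω : X.Modules} {δ : OmegaSh.Der f Ω} (D : DeRhamSh.Cx f Ω δ)

/-- The term in degree `j` of the extended complex. -/
def termIso (j : ℕ) : D.KZ.X (j : ℤ) ≅ Coh.toAb (D.term j) :=
  D.K.extendXIso ComplexShape.embeddingUpNat (ComplexShape.embeddingUpNat_f j) ≪≫ D.iso j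

omit [HasDerivedCategory.{u} (Sheaf (Opens.grothendieckTopology X) AddCommGrpCat.{u})] [X.Over (Spec (CommRingCat.of A))] in
theorem isZero_KZ_neg (p : ℤ) (hp : p < 0) : IsZero (D.KZ.X p) :=
  D.K.isZero_extend_X ComplexShape.embeddingUpNat p fun j hj => by
    have : ((j : ℕ) : ℤ) = p := hj
    omega

omit [HasDerivedCategory.{u} (Sheaf (Opens.grothendieckTopology X) AddCommGrpCat.{u})] [X.Over (Spec (CommRingCat.of A))] in
theorem isZero_KZ_big {n : ℕ} (h : ∀ j : ℕ, n < j → IsZero (D.term j)) (p : ℤ) (hp : (n : ℤ) < p) :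
    IsZero (D.KZ.X p) := by
  obtain ⟨j, rfl⟩ := Int.eq_ofNat_of_zero_le (show 0 ≤ p by omega)
  haveI : (SheafOfModules.toSheaf.{u} X.ringCatSheaf).Additive := inferInstance
  exact ((SheafOfModules.toSheaf.{u} X.ringCatSheaf).map_isZero (h j (by omega))).of_iso (termIso D j)

theorem singleEnd_scalar (h : KLinDR.TermwiseLinear (Coh.toGlobal (X ↘ Spec (CommRingCat.of A))) D.K D.term D.iso)
    (j : ℕ) : (singleEnd D.KZ (j : ℤ)).comp (KLinDR.scalar h) = scalSingle A (j : ℤ) (D.term j) (termIso D j) := by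
  refine RingHom.ext fun a => ?_
  change (HomologicalComplex.single _ (ComplexShape.up ℤ) (j : ℤ)).map _ = (HomologicalComplex.single _ _ _).map _
  rw [KLinDR.scalar_f, KLinDR.scalarEnd]
  simp only [termIso, Iso.trans_hom, Iso.trans_inv, Category.assoc]

include A in
theorem subsingleton_term {n : ℕ} (hbig : ∀ j : ℕ, n < j → IsZero (D.term j)) (p i : ℤ)
    (hv : ∀ (j q : ℕ), (j : ℤ) = p → (j : ℤ) + q = i → j ≤ n → Subsingleton (Coh.HH X (D.term j) q)) :
    Subsingleton (HdRVanish.HomTo (CohCx.freeSheaf (Opens.grothendieckTopology X) (⊤ : X.Opens))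
      ((HomologicalComplex.single _ (ComplexShape.up ℤ) p).obj (D.KZ.X p)) i) := by
  have hz : IsZero (D.KZ.X p) → Subsingleton (HdRVanish.HomTo (CohCx.freeSheaf (Opens.grothendieckTopology X) (⊤ : X.Opens))
      ((HomologicalComplex.single _ (ComplexShape.up ℤ) p).obj (D.KZ.X p)) i) := fun hY => by
    have := (HomologicalComplex.single _ (ComplexShape.up ℤ) p ⋙ DerivedCategory.Q ⋙
      shiftFunctor (DerivedCategory (Sheaf (Opens.grothendieckTopology X) AddCommGrpCat.{u})) i).map_isZero hY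
    exact ⟨fun a b => this.eq_of_tgt a b⟩
  rcases lt_or_ge p 0 with hp | hp
  · exact hz (isZero_KZ_neg D p hp)
  obtain ⟨j, rfl⟩ := Int.eq_ofNat_of_zero_le hp
  by_cases hj : n < j
  · exact hz (isZero_KZ_big D hbig _ (by omega))
  exact subsingleton_single A _ i (D.term j) (termIso D j) fun q hq => hv j q rfl hq (by omega)

end Terms

section Pn

variable {n : ℕ} (R : Type u) [CommRing R] [QuasiSeparated (CohB1.ProjSpace.toSpec n R)]
  (D : DeRhamSh.OmegaCx (CohB1.ProjSpace.toSpec n R))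
  [HasDerivedCategory.{u} (Sheaf (Opens.grothendieckTopology ↥(CohB1.ProjSpace n R)) AddCommGrpCat.{u})]

theorem exists_even_reduce {R' : Type u'} [Ring R'] (ρ : R' →+* End D.KZ) (i : ℕ) (hi : i ≤ n) :
    Nonempty (KLinDR.HTρ (CohCx.freeSheaf (Opens.grothendieckTopology ↥(CohB1.ProjSpace n R)) (⊤ : (CohB1.ProjSpace n R).Opens))
      D.KZ ρ (2 * (i : ℤ)) ≃ₗ[R'] KLinDR.HTρ (CohCx.freeSheaf (Opens.grothendieckTopology ↥(CohB1.ProjSpace n R)) (⊤ : (CohB1.ProjSpace n R).Opens))
        ((HomologicalComplex.single _ (ComplexShape.up ℤ) (i : ℤ)).obj (D.KZ.X (i : ℤ)))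
        ((singleEnd D.KZ (i : ℤ)).comp ρ) (2 * (i : ℤ))) := by
  have hbig : ∀ j : ℕ, n < j → IsZero (D.term j) := fun j hj => isZero_extPow_omega hj (D.isExtPow j)
  have hv : ∀ j q : ℕ, ¬ (q = j) → Subsingleton (Coh.HH (CohB1.ProjSpace n R) (D.term j) q) := fun j q hjq => by
    obtain ⟨e⟩ := nonempty_hh_om (n := n) (A := R) (p := j) (L := D.term j) (D.isExtPow j) q
    exact e.toEquiv.subsingleton_congr.1 (vanish j 0 q (by omega) (by omega) (by omega) _ (D.isExtPow j))
  refine nonempty_equiv_single D.KZ ρ _ (isZero_KZ_big D hbig) (isZero_KZ_neg D) _ _ (Int.natCast_nonneg i)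
    (fun p hp => ⟨?_, ?_⟩) (fun p hp => ⟨?_, ?_⟩) <;>
    exact subsingleton_term R D hbig p _ fun j q hj hjq _ => hv j q (by omega)

theorem nonempty_hdR_even_addEquiv (i : ℕ) (hi : i ≤ n) : Nonempty (DeRhamSh.HdR D (2 * (i : ℤ)) ≃+ R) := by
  obtain ⟨e⟩ := exists_even_reduce R D (RingHom.id (End D.KZ)) i hi
  obtain ⟨s⟩ := nonempty_single_addEquiv R (i : ℤ) (D.term i) (termIso D i) (2 * (i : ℤ)) i (by omega)
  obtain ⟨t⟩ := nonempty_hh_om (n := n) (A := R) (p := i) (L := D.term i) (D.isExtPow i) i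
  obtain ⟨u⟩ := nonempty_H_diag i hi _ (D.isExtPow i)
  exact ⟨(KLinDR.HTρ.toHT (ρ := RingHom.id (End D.KZ))).symm.trans (e.toAddEquiv.trans
    (KLinDR.HTρ.toHT.trans (s.trans (t.symm ≪≫ₗ u).toAddEquiv)))⟩

theorem nonempty_hdR_even_linearEquiv
    (h : KLinDR.TermwiseLinear (Coh.toGlobal (CohB1.ProjSpace.toSpec n R)) D.K D.term D.iso) (i : ℕ) (hi : i ≤ n) :
    Nonempty (KLinDR.HdR (Coh.toGlobal (CohB1.ProjSpace.toSpec n R)) D h (2 * (i : ℤ)) ≃ₗ[R] R) := by
  obtain ⟨e⟩ := exists_even_reduce R D (KLinDR.scalar h) i hi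
  obtain ⟨s⟩ := nonempty_single_equiv R (i : ℤ) (D.term i) (termIso D i) ((singleEnd D.KZ (i : ℤ)).comp (KLinDR.scalar h))
    (fun a => RingHom.congr_fun (singleEnd_scalar R D h i) a) (2 * (i : ℤ)) i (by omega)
  obtain ⟨t⟩ := nonempty_hh_om (n := n) (A := R) (p := i) (L := D.term i) (D.isExtPow i) i
  obtain ⟨u⟩ := nonempty_H_diag i hi _ (D.isExtPow i)
  exact ⟨e ≪≫ₗ s ≪≫ₗ t.symm ≪≫ₗ u⟩

end Pn

end Groth.Agent.PnHodge.HTLin
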