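import Groth.Agent.SGA6Ext.Lambda
import Groth.Agent.TMul.Power
import Groth.Prelude.Def_ExtPow2

/-!
# Exterior powers of a twist by a line bundle

If `L = ∧^p E` and `L' = ∧^p (E ⊗ N)` with `N` invertible then `L' ≅ L ⊗ N^{⊗ p}`.
-/

set_option autoImplicit false
set_option backward.isDefEq.respectTransparency false
set_option backward.isDefEq.respectTransparency.types false
set_option linter.style.haveILetI false
set_option maxHeartbeats 1000000

universe u

open CategoryTheory CategoryTheory.Limits AlgebraicGeometry TopologicalSpace Opposite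
open Groth.Agent.QC (res resO res_res res_self res_smul app_res)
open TMul (tm)
open Groth.Agent.SGA6Ext

noncomputable section

namespace Groth.Agent.PnHodge

variable {X : Scheme.{u}}

theorem map_smul_eq {R M M' : Type*} [CommRing R] [AddCommGroup M] [Module R M] [AddCommGroup M']
    [Module R M'] (p : ℕ) (f : M →ₗ[R] M') (c : R) :
    exteriorPower.map p (c • f) = c ^ p • exteriorPower.map p f := by
  refine exteriorPower.linearMap_ext (AlternatingMap.ext fun e => ?_)
  simp only [LinearMap.compAlternatingMap_apply, LinearMap.smul_apply, exteriorPower.map_apply_ιMulti]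
  rw [show ((c • f) ∘ e) = fun i => c • f (e i) from rfl, AlternatingMap.map_smul_univ,
    Finset.prod_const, Finset.card_univ, Fintype.card_fin]
  rfl

variable {E N : X.Modules}

/-- Affine opens inside the domain of a generator of `N`. -/
def LineGood (N : X.Modules) (V : X.Opens) : Prop :=
  IsAffineOpen V ∧ ∃ g : Γ(N, V), TMul.IsGen g

theorem isBase_lineGood (hN : PicF.IsInvertible N) : IsBase (LineGood N) := fun U x hx => by
  obtain ⟨D, g, hxD, hg⟩ := TMul.exists_isGen hN x
  obtain ⟨V, hV, hxV, hle⟩ := exists_isAffineOpen_mem_and_subset (X := X) (x := x) (U := U ⊓ D) ⟨hx, hxD⟩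
  have hle' : V ≤ U ⊓ D := hle
  exact ⟨V, ⟨hV, _, hg.res (hle'.trans inf_le_right)⟩, hxV, hle'.trans inf_le_left⟩

variable (E) in
/-- Tensoring sections with a section of `N`. -/
def tensorBy {V : X.Opens} (g : Γ(N, V)) : Sec E V →ₗ[Γ(X, V)] Sec (CohB1.tensorMod E N) V where
  toFun m := tm (show Γ(E, V) from m) g
  map_add' a b := TMul.tm_add (show Γ(E, V) from a) (show Γ(E, V) from b) g
  map_smul' r a := TMul.smul_tm r (show Γ(E, V) from a) g

theorem tensorBy_smul {V : X.Opens} (g : Γ(N, V)) (c : Γ(X, V)) :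
    tensorBy E (c • g) = c • tensorBy E g :=
  LinearMap.ext fun m => TMul.tm_smul c (show Γ(E, V) from m) g

variable {p : ℕ} {L L' : X.Modules} (φ : Phi p E L) (φ' : Phi p (CohB1.tensorMod E N) L')

/-- The transfer map on a good open. -/
def trf {V : X.Opens} (hV : IsAffineOpen V) (g : Γ(N, V)) : Sec L V →ₗ[Γ(X, V)] Sec L' V :=
  (φ' ⟨V, hV⟩).symm.toLinearMap.comp
    ((exteriorPower.map p (tensorBy E g)).comp (φ ⟨V, hV⟩).toLinearMap)

theorem trf_smul {V : X.Opens} (hV : IsAffineOpen V) (g : Γ(N, V)) (c : Γ(X, V)) (m : Sec L V) :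
    trf φ φ' hV (c • g) m = c ^ p • trf φ φ' hV g m := by
  simp only [trf, tensorBy_smul, map_smul_eq, LinearMap.comp_apply, LinearMap.smul_apply, map_smul]

variable {φ φ'}

theorem trf_res (hφ : PhiCompat φ) (hφ' : PhiCompat φ') {W V : X.Opens} (hW : IsAffineOpen W)
    (hV : IsAffineOpen V) (h : W ≤ V) (g : Γ(N, V)) (m : Sec L V) :
    secRes L' h (trf φ φ' hV g m) = trf φ φ' hW (res N h g) (secRes L h m) := by
  simp only [trf, LinearMap.comp_apply, LinearEquiv.coe_toLinearMap]
  rw [LinearEquiv.eq_symm_apply, phi_res hφ' ⟨V, hV⟩ ⟨W, hW⟩ h, LinearEquiv.apply_symm_apply,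
    phi_res hφ ⟨V, hV⟩ ⟨W, hW⟩ h]
  exact extS_map _ (secRes_smul _ h) _ (secRes_smul E h) (tensorBy E g) (tensorBy E (res N h g))
    (fun x => TMul.res_tm h (show Γ(E, V) from x) g) p _

variable (φ φ')

theorem trf_bijective {V : X.Opens} (hV : IsAffineOpen V) {g : Γ(N, V)} (hg : TMul.IsGen g) :
    Function.Bijective (trf φ φ' hV g) := by
  have hb : Function.Bijective (tensorBy E g) := by
    have := TMul.tm_bijective (M := E) hg V le_rfl
    simpa only [QC.res_self] using! this
  let e := LinearEquiv.ofBijective (tensorBy E g) hb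
  have hm : Function.Bijective (exteriorPower.map p (tensorBy E g)) := by
    refine Function.bijective_iff_has_inverse.2 ⟨exteriorPower.map p e.symm.toLinearMap, fun x => ?_, fun x => ?_⟩
    · rw [← LinearMap.comp_apply, ← exteriorPower.map_comp,
        show e.symm.toLinearMap ∘ₗ tensorBy E g = LinearMap.id from LinearMap.ext e.symm_apply_apply,
        exteriorPower.map_id, LinearMap.id_apply]
    · rw [← LinearMap.comp_apply, ← exteriorPower.map_comp,
        show tensorBy E g ∘ₗ e.symm.toLinearMap = LinearMap.id from LinearMap.ext e.apply_symm_apply,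
        exteriorPower.map_id, LinearMap.id_apply]
  exact (φ' ⟨V, hV⟩).symm.bijective.comp (hm.comp (φ ⟨V, hV⟩).bijective)

/-- `∧^p (E ⊗ N) ≅ ∧^p E ⊗ N^{⊗ p}`. -/
theorem nonempty_iso_twist (hN : PicF.IsInvertible N) (hL : ExtPow.IsExtPow p E L)
    (hL' : ExtPow.IsExtPow p (CohB1.tensorMod E N) L') :
    Nonempty (CohB1.tensorMod L (CohB1.tensorPow N p) ≅ L') := by
  obtain ⟨φ, hφ⟩ := hL
  obtain ⟨φ', hφ'⟩ := hL'
  have hG := isBase_lineGood hN
  let gen : ∀ V : X.Opens, LineGood N V → Γ(N, V) := fun V hV => hV.2.choose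
  have hgen : ∀ V hV, TMul.IsGen (gen V hV) := fun V hV => hV.2.choose_spec
  let co : ∀ V hV, Γ(X, V) ≃ₗ[Γ(X, V)] Γ(CohB1.tensorPow N p, V) := fun V hV =>
    TMul.coeffEquiv (TMul.isGen_pw (hgen V hV) p) le_rfl
  have hco : ∀ V hV c, co V hV c = c • TMul.pw (gen V hV) p := fun V hV c => by
    change c • res (CohB1.tensorPow N p) le_rfl (TMul.pw (gen V hV) p) = _
    rw [QC.res_self]
  let B : ∀ V : X.Opens, LineGood N V →
      Γ(L, V) →ₗ[Γ(X, V)] Γ(CohB1.tensorPow N p, V) →ₗ[Γ(X, V)] Γ(L', V) := fun V hV =>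
    LinearMap.mk₂ Γ(X, V) (fun m b => (co V hV).symm b • (show Γ(L', V) from trf φ φ' hV.1 (gen V hV) m))
      (fun m m' b => by rw [← smul_add]; exact congrArg _ (map_add (trf φ φ' hV.1 (gen V hV)) m m'))
      (fun c m b => by
        rw [smul_comm]; exact congrArg _ (map_smul (trf φ φ' hV.1 (gen V hV)) c m))
      (fun m b b' => by rw [map_add, add_smul]) (fun c m b => by rw [map_smul, smul_assoc])
  obtain ⟨ψ, hψ⟩ := exists_bilHom (M := L) (N := CohB1.tensorPow N p) (P := L') hG B
    (fun W V hW hV h m b => by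
      obtain ⟨c, rfl⟩ := (co V hV).surjective b
      obtain ⟨u, hu⟩ := ((hgen W hW) W le_rfl).2 (res N h (gen V hV))
      change u • res N _ (gen W hW) = _ at hu
      rw [QC.res_self] at hu
      have hb : res _ h (co V hV c) = co W hW (resO X h c * u ^ p) := by
        rw [hco V hV, hco W hW, res_smul, TMul.res_pw, ← hu, TMul.pw_smul, smul_smul]
      simp only [B, LinearMap.mk₂_apply, LinearEquiv.symm_apply_apply, hb]
      rw [res_smul, mul_smul]
      congr 1
      refine Eq.trans (trf_res hφ hφ' hW.1 hV.1 h (gen V hV) m) ?_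
      rw [← hu, trf_smul]
      rfl)
  have key : ∀ V (hV : LineGood N V), Function.Bijective (ψ.app V) := fun V hV => by
    have h1 := TMul.tm_bijective (M := L) (TMul.isGen_pw (hgen V hV) p) V le_rfl
    simp only [QC.res_self] at h1
    refine (Function.Bijective.of_comp_iff _ h1).1 ?_
    have : (ψ.app V ∘ fun m : Γ(L, V) => tm m (TMul.pw (gen V hV) p)) = trf φ φ' hV.1 (gen V hV) := by
      funext m
      refine (hψ V hV m _).trans ?_
      have h2 : (co V hV).symm (TMul.pw (gen V hV) p) = 1 := by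
        rw [LinearEquiv.symm_apply_eq, hco V hV, one_smul]
      simp only [B, LinearMap.mk₂_apply, h2, one_smul]
    rw [this]
    exact trf_bijective φ φ' hV.1 (hgen V hV)
  haveI : Mono ψ := mono_of_base hG ψ fun V hV => (key V hV).1
  haveI : Epi ψ := epi_of_base hG ψ fun V hV => (key V hV).2
  haveI : IsIso ψ := isIso_of_mono_of_epi ψ
  exact ⟨asIso ψ⟩

end Groth.Agent.PnHodge
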